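import Mathlib

/-!
# Additive matrices with few non-zero entries
-/

namespace Cfsg.Agent.CyclicTI

/-- An additive `m × n` matrix, `m + 2 ≤ n`, with fewer than `2m` non-zero entries is zero, a
constant row or a constant column. -/
theorem additive_few {I J : Type*} [Fintype I] [Fintype J] [DecidableEq I] [DecidableEq J] (u : I → ℂ) (v : J → ℂ)
    (hlt : Fintype.card I + 2 ≤ Fintype.card J)
    (hfew : Nat.card {x : I × J // u x.1 + v x.2 ≠ 0} < 2 * Fintype.card I) :
    (∀ i j, u i + v j = 0) ∨
      (∃ (j₀ : J) (a : ℂ), ∀ i j, u i + v j = if j = j₀ then a else 0) ∨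
      (∃ (i₀ : I) (a : ℂ), ∀ i j, u i + v j = if i = i₀ then a else 0) := by
  classical
  have hsum : Nat.card {x : I × J // u x.1 + v x.2 ≠ 0} =
      ∑ i, (Finset.univ.filter fun j => u i + v j ≠ 0).card := by
    rw [Nat.card_eq_fintype_card, Fintype.card_subtype, Finset.card_filter, Fintype.sum_prod_type]
    exact Finset.sum_congr rfl fun i _ => (Finset.card_filter _ _).symm
  obtain ⟨i₀, hi₀⟩ : ∃ i, (Finset.univ.filter fun j => u i + v j ≠ 0).card ≤ 1 := by
    by_contra! hall
    have h2 : ∑ _i : I, 2 ≤ ∑ i, (Finset.univ.filter fun j => u i + v j ≠ 0).card :=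
      Finset.sum_le_sum fun i _ => hall i
    rw [Finset.sum_const, Finset.card_univ, smul_eq_mul] at h2
    omega
  rcases Finset.eq_empty_or_nonempty (Finset.univ.filter fun j => u i₀ + v j ≠ 0) with he | ⟨j₀, hj₀⟩
  · -- a zero row: `v` is constant
    have hv : ∀ j, v j = -u i₀ := fun j => by
      have h1 := Finset.filter_eq_empty_iff.1 he (Finset.mem_univ j)
      push Not at h1
      linear_combination h1
    by_cases hall : ∀ i, u i = u i₀
    · exact Or.inl fun i j => by rw [hall i, hv j]; ring
    push Not at hall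
    obtain ⟨i₁, hi₁⟩ := hall
    refine Or.inr (Or.inr ⟨i₁, u i₁ - u i₀, fun i j => ?_⟩)
    by_cases hi : i = i₁
    · rw [if_pos hi, hi, hv j]; ring
    · rw [if_neg hi, hv j]
      by_contra hne
      have hfull : ∀ k, u k - u i₀ ≠ 0 →
          (Finset.univ.filter fun j => u k + v j ≠ 0).card = Fintype.card J := fun k hk => by
        rw [Finset.filter_true_of_mem fun l _ => by rwa [hv l, ← sub_eq_add_neg], Finset.card_univ]
      have h2 : ∑ k ∈ {i, i₁}, (Finset.univ.filter fun j => u k + v j ≠ 0).card ≤
          ∑ k, (Finset.univ.filter fun j => u k + v j ≠ 0).card :=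
        Finset.sum_le_sum_of_subset (Finset.subset_univ _)
      rw [Finset.sum_pair hi, hfull i (by rwa [sub_eq_add_neg]),
        hfull i₁ (sub_ne_zero.2 hi₁)] at h2
      omega
  · -- a row with one non-zero entry
    have hu : ∀ j, j ≠ j₀ → v j = -u i₀ := fun j hj => by
      by_contra hne
      exact hj (Finset.card_le_one.1 hi₀ j
        (Finset.mem_filter.2 ⟨Finset.mem_univ j, fun h => hne (by linear_combination h)⟩) j₀ hj₀)
    have hj₀' : u i₀ + v j₀ ≠ 0 := (Finset.mem_filter.1 hj₀).2
    have hall : ∀ i, u i = u i₀ := by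
      intro i
      by_contra hne
      have hbig : Fintype.card J - 1 ≤ (Finset.univ.filter fun j => u i + v j ≠ 0).card := by
        rw [← Finset.card_univ, ← Finset.card_erase_of_mem (Finset.mem_univ j₀)]
        refine Finset.card_le_card fun j hj => Finset.mem_filter.2 ⟨Finset.mem_univ j, ?_⟩
        rw [hu j (Finset.ne_of_mem_erase hj), ← sub_eq_add_neg]
        exact sub_ne_zero.2 hne
      have hone : ∀ k, 1 ≤ (Finset.univ.filter fun j => u k + v j ≠ 0).card := fun k => by
        refine Finset.card_pos.2 ?_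
        by_contra hemp
        rw [Finset.not_nonempty_iff_eq_empty, Finset.filter_eq_empty_iff] at hemp
        obtain ⟨j₁, hj₁⟩ := Fintype.exists_ne_of_one_lt_card (show 1 < Fintype.card J by omega) j₀
        have h1 := hemp (Finset.mem_univ j₀)
        have h2 := hemp (Finset.mem_univ j₁)
        push Not at h1 h2
        rw [hu j₁ hj₁] at h2
        exact hj₀' (by linear_combination h1 - h2)
      have hsplit := Finset.add_sum_erase Finset.univ
        (fun k => (Finset.univ.filter fun j => u k + v j ≠ 0).card) (Finset.mem_univ i)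
      have hrest : ∑ _k ∈ Finset.univ.erase i, 1 ≤ ∑ k ∈ Finset.univ.erase i,
          (Finset.univ.filter fun j => u k + v j ≠ 0).card := Finset.sum_le_sum fun k _ => hone k
      rw [Finset.sum_const, smul_eq_mul, mul_one, Finset.card_erase_of_mem (Finset.mem_univ i),
        Finset.card_univ] at hrest
      omega
    refine Or.inr (Or.inl ⟨j₀, u i₀ + v j₀, fun i j => ?_⟩)
    rw [hall i]
    by_cases hj : j = j₀
    · rw [if_pos hj, hj]
    · rw [if_neg hj, hu j hj]; ring

/-- An additive matrix, at least `3 × 3`, with at most two non-zero entries is zero. -/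
theorem additive_two {I J : Type*} [Fintype I] [Fintype J] (u : I → ℂ) (v : J → ℂ)
    (hI : 3 ≤ Fintype.card I) (hJ : 3 ≤ Fintype.card J) {a b : I × J}
    (h : ∀ x : I × J, x ≠ a → x ≠ b → u x.1 + v x.2 = 0) (i : I) (j : J) : u i + v j = 0 := by
  classical
  by_contra hne
  obtain ⟨i', hi'⟩ : ∃ i', i' ∉ ({a.1, b.1} : Finset I) := by
    by_contra! hall
    have := (Finset.card_le_card (fun x (_ : x ∈ Finset.univ) => hall x)).trans Finset.card_le_two
    rw [Finset.card_univ] at this; omega
  obtain ⟨j', hj'⟩ : ∃ j', j' ∉ ({a.2, b.2} : Finset J) := by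
    by_contra! hall
    have := (Finset.card_le_card (fun x (_ : x ∈ Finset.univ) => hall x)).trans Finset.card_le_two
    rw [Finset.card_univ] at this; omega
  simp only [Finset.mem_insert, Finset.mem_singleton, not_or] at hi' hj'
  have h1 := h (i', j) (fun e => hi'.1 (congrArg Prod.fst e)) (fun e => hi'.2 (congrArg Prod.fst e))
  have h2 := h (i, j') (fun e => hj'.1 (congrArg Prod.snd e)) (fun e => hj'.2 (congrArg Prod.snd e))
  have h3 := h (i', j') (fun e => hi'.1 (congrArg Prod.fst e))
    (fun e => hi'.2 (congrArg Prod.fst e))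
  simp only at h1 h2 h3
  exact hne (by linear_combination h1 + h2 - h3)

end Cfsg.Agent.CyclicTI
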