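import Cfsg.Agent.CyclicTI.Family
import Cfsg.Agent.CyclicTI.Additive
import Cfsg.Agent.BlockChar.Galois
import Cfsg.Agent.Char.Galois

/-!
# Consequences of the four-term relation
-/

namespace Cfsg.Agent.CyclicTI

open Char
open scoped ComplexConjugate

universe u

variable {G : Type u} [Group G] [Fintype G] {W₁ W₂ : Subgroup G}

variable (W₁ W₂) in
/-- Linear characters trivial on the second factor. -/
abbrev LeftAll : Type _ :=
  {f : ↥(W₁ ⊔ W₂) →* ℂˣ // ∀ w : ↥(W₁ ⊔ W₂), (w : G) ∈ W₂ → f w = 1}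

variable (W₁ W₂) in
/-- Linear characters trivial on the first factor. -/
abbrev RightAll : Type _ :=
  {f : ↥(W₁ ⊔ W₂) →* ℂˣ // ∀ w : ↥(W₁ ⊔ W₂), (w : G) ∈ W₁ → f w = 1}

theorem card_all (hW : Cfsg.IsSelfNormalizingCyclic W₁ W₂) :
    Nat.card (LeftAll W₁ W₂) = Nat.card W₁ ∧ Nat.card (RightAll W₁ W₂) = Nat.card W₂ := by
  have h2 := card_trivialOn hW.2.2.2.2.1 W₂ le_sup_right
  have h1 := card_trivialOn hW.2.2.2.2.1 W₁ le_sup_left
  rw [card_sup hW] at h1 h2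
  exact ⟨Nat.eq_of_mul_eq_mul_right Nat.card_pos h2,
    Nat.eq_of_mul_eq_mul_right Nat.card_pos (h1.trans (mul_comm _ _))⟩

theorem mul_bijective (hW : Cfsg.IsSelfNormalizingCyclic W₁ W₂) :
    Function.Bijective (fun x : LeftAll W₁ W₂ × RightAll W₁ W₂ => x.1.1 * x.2.1) := by
  refine ⟨fun x y h => ?_, fun ω => ?_⟩
  · obtain ⟨h1, h2⟩ := (mul_eq_mul_iff hW.2.2.2.1 x.1.2 x.2.2 y.1.2 y.2.2).1 h
    exact Prod.ext (Subtype.ext h1) (Subtype.ext h2)
  · obtain ⟨φ, ψ, hφ, hψ, e⟩ := exists_mul_eq hW ω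
    exact ⟨(⟨φ, hφ⟩, ⟨ψ, hψ⟩), e⟩

variable {χ : (↥(W₁ ⊔ W₂) →* ℂˣ) → (G → ℂ)}

/-- The trichotomy for class functions with few coefficients. -/
theorem few_coeff (hW : Cfsg.IsSelfNormalizingCyclic W₁ W₂) [Fintype ↥(W₁ ⊔ W₂)]
    (hodd : Odd (Nat.card ↥(W₁ ⊔ W₂))) (hχ : Cfsg.IsCyclicTIFamily W₁ W₂ χ)
    (hlt : Nat.card W₁ < Nat.card W₂) {θ : G → ℂ} (hθ : IsClassFunction G θ)
    (hθV : ∀ w : ↥(W₁ ⊔ W₂), (w : G) ∉ W₁ → (w : G) ∉ W₂ → θ w = 0)
    (hfew : Nat.card {ω : ↥(W₁ ⊔ W₂) →* ℂˣ // classInner θ (χ ω) ≠ 0} < 2 * Nat.card W₁) :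
    (∀ ω, classInner θ (χ ω) = 0) ∨
      (∃ (ψ₀ : ↥(W₁ ⊔ W₂) →* ℂˣ) (a : ℂ), ∀ ω,
        ((∀ w : ↥(W₁ ⊔ W₂), (w : G) ∈ W₂ → (ω * ψ₀⁻¹) w = 1) → classInner θ (χ ω) = a) ∧
        (¬ (∀ w : ↥(W₁ ⊔ W₂), (w : G) ∈ W₂ → (ω * ψ₀⁻¹) w = 1) → classInner θ (χ ω) = 0)) ∨
      (∃ (φ₀ : ↥(W₁ ⊔ W₂) →* ℂˣ) (a : ℂ), ∀ ω,
        ((∀ w : ↥(W₁ ⊔ W₂), (w : G) ∈ W₁ → (ω * φ₀⁻¹) w = 1) → classInner θ (χ ω) = a) ∧
        (¬ (∀ w : ↥(W₁ ⊔ W₂), (w : G) ∈ W₁ → (ω * φ₀⁻¹) w = 1) → classInner θ (χ ω) = 0)) := by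
  classical
  have := finite_hom (W₁ ⊔ W₂)
  have := Fintype.ofFinite (LeftAll W₁ W₂)
  have := Fintype.ofFinite (RightAll W₁ W₂)
  obtain ⟨hcI, hcJ⟩ := card_all hW
  let u : LeftAll W₁ W₂ → ℂ := fun i => classInner θ (χ i.1) - classInner θ (χ 1)
  let v : RightAll W₁ W₂ → ℂ := fun j => classInner θ (χ j.1)
  have hab : ∀ (i : LeftAll W₁ W₂) (j : RightAll W₁ W₂),
      classInner θ (χ (i.1 * j.1)) = u i + v j := fun i j => by
    have := coeff_add hχ hθ hθV i.2 j.2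
    simp only [u, v]; linear_combination this
  let e := Equiv.ofBijective _ (mul_bijective hW)
  have hcount : Nat.card {x : LeftAll W₁ W₂ × RightAll W₁ W₂ // u x.1 + v x.2 ≠ 0} =
      Nat.card {ω : ↥(W₁ ⊔ W₂) →* ℂˣ // classInner θ (χ ω) ≠ 0} :=
    Nat.card_congr (e.subtypeEquiv fun x => by rw [← hab]; rfl)
  have hodd' := card_sup hW ▸ hodd
  rw [Nat.odd_mul] at hodd'
  obtain ⟨⟨a, ha⟩, b, hb⟩ := hodd'
  rw [Nat.card_eq_fintype_card (α := LeftAll W₁ W₂)] at hcI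
  rw [Nat.card_eq_fintype_card (α := RightAll W₁ W₂)] at hcJ
  have hsplit : ∀ ω, ∃ (i : LeftAll W₁ W₂) (j : RightAll W₁ W₂), i.1 * j.1 = ω := fun ω =>
    ⟨(e.symm ω).1, (e.symm ω).2, e.apply_symm_apply ω⟩
  rcases additive_few u v (by omega) (by omega) with h | ⟨j₀, c, h⟩ | ⟨i₀, c, h⟩
  · left
    intro ω
    obtain ⟨i, j, rfl⟩ := hsplit ω
    rw [hab]; exact h i j
  · right; left
    refine ⟨j₀.1, c, fun ω => ?_⟩
    obtain ⟨i, j, rfl⟩ := hsplit ω
    have hiff : (∀ w : ↥(W₁ ⊔ W₂), (w : G) ∈ W₂ → (i.1 * j.1 * j₀.1⁻¹) w = 1) ↔ j = j₀ := by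
      refine ⟨fun hw => ?_, fun hw w hw2 => by subst hw; simp [i.2 w hw2]⟩
      have h1 := eq_one_of_trivial hW.2.2.2.1 (j.1 * j₀.1⁻¹)
        (fun w hw1 => by simp [j.2 w hw1, j₀.2 w hw1])
        (fun w hw2 => by have := hw w hw2; simpa [i.2 w hw2] using this)
      exact Subtype.ext (MonoidHom.ext fun w => mul_inv_eq_one.1 (DFunLike.congr_fun h1 w))
    rw [hab, h i j]
    exact ⟨fun hw => if_pos (hiff.1 hw), fun hw => if_neg fun e => hw (hiff.2 e)⟩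
  · right; right
    refine ⟨i₀.1, c, fun ω => ?_⟩
    obtain ⟨i, j, rfl⟩ := hsplit ω
    have hiff : (∀ w : ↥(W₁ ⊔ W₂), (w : G) ∈ W₁ → (i.1 * j.1 * i₀.1⁻¹) w = 1) ↔ i = i₀ := by
      refine ⟨fun hw => ?_, fun hw w hw1 => by subst hw; simp [j.2 w hw1]⟩
      have h1 := eq_one_of_trivial hW.2.2.2.1 (i.1 * i₀.1⁻¹)
        (fun w hw1 => by have := hw w hw1; simpa [j.2 w hw1] using this)
        (fun w hw2 => by simp [i.2 w hw2, i₀.2 w hw2])
      exact Subtype.ext (MonoidHom.ext fun w => mul_inv_eq_one.1 (DFunLike.congr_fun h1 w))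
    rw [hab, h i j]
    exact ⟨fun hw => if_pos (hiff.1 hw), fun hw => if_neg fun e => hw (hiff.2 e)⟩

/-- A Galois automorphism permutes the family as it permutes the linear characters. -/
theorem map_family (hW : Cfsg.IsSelfNormalizingCyclic W₁ W₂) [Fintype ↥(W₁ ⊔ W₂)]
    (hodd : Odd (Nat.card ↥(W₁ ⊔ W₂))) (hχ : Cfsg.IsCyclicTIFamily W₁ W₂ χ) (σ : ℂ →+* ℂ)
    (ω ω' : ↥(W₁ ⊔ W₂) →* ℂˣ) (hω : ∀ w, (ω' w : ℂ) = σ (ω w)) :
    (fun g => σ (χ ω g)) = χ ω' := by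
  classical
  set θ : G → ℂ := fun g => σ (χ ω g)
  have hsign : ∀ f : G → ℂ, IsIrrCharacter G f ∨ IsIrrCharacter G (-f) →
      ∃ (η : IrrCharacter G) (s : ℂ), (s = 1 ∨ s = -1) ∧ f = s • (η : G → ℂ) := by
    rintro f (hf | hf)
    · exact ⟨⟨f, hf⟩, 1, Or.inl rfl, (one_smul _ _).symm⟩
    · exact ⟨⟨-f, hf⟩, -1, Or.inr rfl, by simp⟩
  have hθsign : IsIrrCharacter G θ ∨ IsIrrCharacter G (-θ) := by
    rcases hχ.irr_or_neg ω with h | h
    · exact Or.inl (isIrr_map σ h)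
    · have h1 := isIrr_map σ h
      exact Or.inr (by simpa [Pi.neg_def, θ] using h1)
  obtain ⟨η, s, hs, hη⟩ := hsign θ hθsign
  choose p t ht hp using fun ν => hsign (χ ν) (hχ.irr_or_neg ν)
  have hsne : s ≠ 0 := by rcases hs with rfl | rfl <;> norm_num
  have hpinj : Function.Injective p := fun ν ν' e => by
    by_contra hne
    have h1 := hχ.orthonormal ν ν'
    rw [if_neg hne, hp ν, hp ν', e, classInner_smul_left, classInner_smul_right,
      classInner_irr_self (p ν').2, mul_one] at h1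
    rcases ht ν with h | h <;> rcases ht ν' with h' | h' <;> simp [h, h'] at h1
  have hcfθ : IsClassFunction G θ := fun g k => by
    simp only [hη, Pi.smul_apply]; rw [isClassFunction_of_isIrr η.2 g k]
  have hcf' : IsClassFunction G (χ ω') := fun g k => by
    simp only [hp ω', Pi.smul_apply]; rw [isClassFunction_of_isIrr (p ω').2 g k]
  have hdiff : IsClassFunction G (θ - χ ω') := fun g k => by
    simp only [Pi.sub_apply]; rw [hcfθ g k, hcf' g k]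
  have hV : ∀ w : ↥(W₁ ⊔ W₂), (w : G) ∉ W₁ → (w : G) ∉ W₂ → (θ - χ ω') w = 0 := fun w h1 h2 => by
    rw [Pi.sub_apply, hχ.eq_on ω' w h1 h2, hω]
    simp only [θ]
    rw [hχ.eq_on ω w h1 h2, sub_self]
  have hsupp : ∀ ν, classInner (θ - χ ω') (χ ν) ≠ 0 → p ν = η ∨ ν = ω' := fun ν hν => by
    by_contra! hcon
    apply hν
    rw [classInner_sub_left, hχ.orthonormal, if_neg (Ne.symm hcon.2), hη, hp ν,
      classInner_smul_left, classInner_smul_right,
      classInner_irr_ne η.2 (p ν).2 fun e => hcon.1 (Subtype.ext e).symm]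
    simp
  have := finite_hom (W₁ ⊔ W₂)
  have := Fintype.ofFinite (LeftAll W₁ W₂)
  have := Fintype.ofFinite (RightAll W₁ W₂)
  obtain ⟨hcI, hcJ⟩ := card_all hW
  have hodd' := card_sup hW ▸ hodd
  rw [Nat.odd_mul] at hodd'
  obtain ⟨⟨a, ha⟩, b, hb⟩ := hodd'
  have hW1 : Nat.card W₁ ≠ 1 := fun h => hW.1 (Subgroup.card_eq_one.1 h)
  have hW2 : Nat.card W₂ ≠ 1 := fun h => hW.2.1 (Subgroup.card_eq_one.1 h)
  rw [Nat.card_eq_fintype_card (α := LeftAll W₁ W₂)] at hcI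
  rw [Nat.card_eq_fintype_card (α := RightAll W₁ W₂)] at hcJ
  let e := Equiv.ofBijective _ (mul_bijective hW)
  -- two possible non-zero coefficients
  obtain ⟨ν₀, hν₀⟩ : ∃ ν₀, ∀ ν, classInner (θ - χ ω') (χ ν) ≠ 0 → ν = ν₀ ∨ ν = ω' := by
    by_cases h : ∃ ν, p ν = η
    · obtain ⟨ν₀, h0⟩ := h
      exact ⟨ν₀, fun ν hν => (hsupp ν hν).imp_left fun h1 => hpinj (h1.trans h0.symm)⟩
    · exact ⟨ω', fun ν hν => Or.inr ((hsupp ν hν).resolve_left fun h1 => h ⟨ν, h1⟩)⟩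
  let u : LeftAll W₁ W₂ → ℂ := fun i =>
    classInner (θ - χ ω') (χ i.1) - classInner (θ - χ ω') (χ 1)
  let v : RightAll W₁ W₂ → ℂ := fun j => classInner (θ - χ ω') (χ j.1)
  have hab : ∀ (i : LeftAll W₁ W₂) (j : RightAll W₁ W₂),
      classInner (θ - χ ω') (χ (i.1 * j.1)) = u i + v j := fun i j => by
    have := coeff_add hχ hdiff hV i.2 j.2
    simp only [u, v]; linear_combination this
  have hzero : classInner (θ - χ ω') (χ ω') = 0 := by
    have h2 := additive_two u v (by omega) (by omega) (a := e.symm ν₀) (b := e.symm ω')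
      (fun x hx hx' => by
        rw [← hab]
        by_contra hne
        rcases hν₀ _ hne with h | h
        · exact hx (e.injective (h.trans (e.apply_symm_apply ν₀).symm))
        · exact hx' (e.injective (h.trans (e.apply_symm_apply ω').symm)))
      (e.symm ω').1 (e.symm ω').2
    rw [← hab] at h2
    convert h2 using 3
    exact (e.apply_symm_apply ω').symm
  rw [classInner_sub_left, hχ.orthonormal, if_pos rfl, sub_eq_zero, hη, hp ω',
    classInner_smul_left, classInner_smul_right] at hzero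
  have hpeq : p ω' = η := by
    by_contra hne
    rw [classInner_irr_ne η.2 (p ω').2 fun h => hne (Subtype.ext h).symm] at hzero
    simp at hzero
  rw [hpeq, classInner_irr_self η.2, mul_one] at hzero
  rw [hη, hp ω', hpeq]
  rcases hs with h | h <;> rcases ht ω' with h' | h' <;> simp [h, h'] at hzero ⊢ <;>
    norm_num at hzero

/-- Values at elements of order prime to that of `ω` are rational integers. -/
theorem int_value (hW : Cfsg.IsSelfNormalizingCyclic W₁ W₂)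
    (hodd : Odd (Nat.card ↥(W₁ ⊔ W₂))) (hχ : Cfsg.IsCyclicTIFamily W₁ W₂ χ)
    (ω : ↥(W₁ ⊔ W₂) →* ℂˣ) {g : G} (hg : Nat.Coprime (orderOf g) (orderOf ω)) :
    ∃ n : ℤ, χ ω g = n := by
  classical
  have := Fintype.ofFinite ↥(W₁ ⊔ W₂)
  set n := Nat.card G with hn
  have hn0 : n ≠ 0 := Nat.card_pos.ne'
  have hb : orderOf ω ∣ n := by
    refine (orderOf_dvd_of_pow_eq_one (MonoidHom.ext fun w => ?_)).trans
      (Subgroup.card_subgroup_dvd_card (W₁ ⊔ W₂))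
    rw [show (ω ^ Nat.card ↥(W₁ ⊔ W₂)) w = ω w ^ Nat.card ↥(W₁ ⊔ W₂) from rfl, ← map_pow,
      pow_card_eq_one', map_one]
    rfl
  have hab : orderOf g * orderOf ω ∣ n :=
    hg.mul_dvd_of_dvd_of_dvd (orderOf_dvd_natCard g) hb
  have hfix : ∀ k : ℕ, k.Coprime n → χ ω (g ^ k) = χ ω g := by
    intro k hk
    obtain ⟨c, hc1, hc2⟩ := Nat.chineseRemainder hg k 1
    have hcop : c.Coprime (orderOf g * orderOf ω) := by
      refine Nat.Coprime.mul_right ?_ ?_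
      · have := hk.coprime_dvd_right (orderOf_dvd_natCard g)
        rw [Nat.coprime_iff_gcd_eq_one] at this ⊢
        rwa [Nat.ModEq.gcd_eq hc1]
      · rw [Nat.coprime_iff_gcd_eq_one, Nat.ModEq.gcd_eq hc2, Nat.gcd_one_left]
    have : NeZero n := ⟨hn0⟩
    obtain ⟨z, hz⟩ := ZMod.unitsMap_surjective hab (ZMod.unitOfCoprime c hcop)
    set k' := (z : ZMod n).val
    have hk' : k'.Coprime n := ZMod.val_coe_unit_coprime z
    have hmod : k' ≡ c [MOD orderOf g * orderOf ω] := by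
      rw [← ZMod.natCast_eq_natCast_iff]
      have h1 := congrArg Units.val hz
      rw [ZMod.unitsMap_val, ZMod.coe_unitOfCoprime] at h1
      rw [← h1, ZMod.natCast_val]
    obtain ⟨σ, hσ⟩ := exists_galois n k' hn0 hk'
    have hσω : ∀ w, (ω w : ℂ) = σ (ω w) := fun w => by
      have h1 : (ω w : ℂ) ^ orderOf ω = 1 := by
        rw [← Units.val_pow_eq_pow_val, show ω w ^ orderOf ω = (ω ^ orderOf ω) w from rfl,
          pow_orderOf_eq_one]
        rfl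
      have h2 : (ω w : ℂ) ^ n = 1 := by
        obtain ⟨d, hd⟩ := hb
        rw [hd, pow_mul, h1, one_pow]
      rw [hσ _ h2, pow_eq_pow_mod k' h1, (hmod.of_mul_left _).trans hc2, ← pow_eq_pow_mod 1 h1,
        pow_one]
    have h3 := congrFun (map_family hW hodd hχ σ ω ω hσω) g
    have h4 : σ (χ ω g) = χ ω (g ^ k') := by
      rcases hχ.irr_or_neg ω with h | h
      · exact galois_apply_pow σ hσ (IsIrr.isCharacter h) (orderOf_dvd_natCard g)
      · have := galois_apply_pow σ hσ (IsIrr.isCharacter h) (orderOf_dvd_natCard g)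
        simpa using this
    have hgk : g ^ k' = g ^ k :=
      pow_eq_pow_iff_modEq.2 ((hmod.of_mul_right _).trans hc1)
    rw [hgk] at h4
    exact h4.symm.trans h3
  have key : ∀ f : G → ℂ, IsIrrCharacter G f → (∀ k : ℕ, k.Coprime n → f (g ^ k) = f g) →
      ∃ m : ℤ, f g = m := fun f hf hfk => by
    have hint := IsChar.isIntegral (IsIrr.isCharacter hf) g
    refine BlockChar.exists_int_of_galois_fixed hint fun ψ => ?_
    obtain ⟨k, hk, hpow⟩ := BlockChar.exists_pow_galois (G := G) ψ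
    exact (hpow f (IsIrr.isCharacter hf) g _).trans (hfk k hk)
  rcases hχ.irr_or_neg ω with h | h
  · exact key _ h hfix
  · obtain ⟨m, hm⟩ := key _ h fun k hk => by simp [hfix k hk]
    exact ⟨-m, by rw [Int.cast_neg, ← hm, Pi.neg_apply, neg_neg]⟩

end Cfsg.Agent.CyclicTI
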