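import Mathlib
import Cfsg.Agent.HSub.Supersolvable
import Cfsg.Agent.Char.Induced
import Cfsg.Agent.Char.Linear
import Cfsg.Prelude.Def_OddOrderLocal
import Cfsg.Prelude.Def_OddOrderChar

/-!
# Self-normalising cyclic pairs and their linear characters
-/

namespace Cfsg.Agent.CyclicTI

open Char
open scoped ComplexConjugate

universe u

variable {G : Type u} [Group G] {W₁ W₂ : Subgroup G}

theorem mem_sup_iff (hc : ∀ a ∈ W₁, ∀ b ∈ W₂, a * b = b * a) {x : G} :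
    x ∈ W₁ ⊔ W₂ ↔ ∃ a ∈ W₁, ∃ b ∈ W₂, a * b = x := by
  refine ⟨fun h => ?_, fun ⟨a, ha, b, hb, e⟩ => e ▸ Subgroup.mul_mem_sup ha hb⟩
  rw [Subgroup.sup_eq_closure] at h
  induction h using Subgroup.closure_induction with
  | mem x hx => rcases hx with hx | hx
                · exact ⟨x, hx, 1, W₂.one_mem, mul_one x⟩
                · exact ⟨1, W₁.one_mem, x, hx, one_mul x⟩
  | one => exact ⟨1, W₁.one_mem, 1, W₂.one_mem, mul_one 1⟩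
  | mul x y _ _ hx hy =>
      obtain ⟨a, ha, b, hb, rfl⟩ := hx
      obtain ⟨a', ha', b', hb', rfl⟩ := hy
      exact ⟨a * a', W₁.mul_mem ha ha', b * b', W₂.mul_mem hb hb',
        (show Commute a' b from hc a' ha' b hb).mul_mul_mul_comm a b'⟩
  | inv x _ hx =>
      obtain ⟨a, ha, b, hb, rfl⟩ := hx
      exact ⟨a⁻¹, W₁.inv_mem ha, b⁻¹, W₂.inv_mem hb, by
        rw [hc _ (W₁.inv_mem ha) _ (W₂.inv_mem hb), mul_inv_rev]⟩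

/-- A linear character of `W` trivial on both factors is trivial. -/
theorem eq_one_of_trivial (hc : ∀ a ∈ W₁, ∀ b ∈ W₂, a * b = b * a) {M : Type*} [CommMonoid M]
    (f : ↥(W₁ ⊔ W₂) →* M) (h₁ : ∀ w : ↥(W₁ ⊔ W₂), (w : G) ∈ W₁ → f w = 1)
    (h₂ : ∀ w : ↥(W₁ ⊔ W₂), (w : G) ∈ W₂ → f w = 1) : f = 1 := by
  ext w
  obtain ⟨a, ha, b, hb, e⟩ := (mem_sup_iff hc).1 w.2
  have : w = ⟨a, Subgroup.mem_sup_left ha⟩ * ⟨b, Subgroup.mem_sup_right hb⟩ := Subtype.ext e.symm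
  rw [this, map_mul, h₁ _ ha, h₂ _ hb, mul_one, MonoidHom.one_apply]

/-- Two linear characters trivial on different factors are equal only when trivial. -/
theorem eq_one_of_eq (hc : ∀ a ∈ W₁, ∀ b ∈ W₂, a * b = b * a)
    {φ ψ : ↥(W₁ ⊔ W₂) →* ℂˣ} (hφ : ∀ w : ↥(W₁ ⊔ W₂), (w : G) ∈ W₂ → φ w = 1)
    (hψ : ∀ w : ↥(W₁ ⊔ W₂), (w : G) ∈ W₁ → ψ w = 1) (h : φ = ψ) : φ = 1 :=
  eq_one_of_trivial hc φ (fun w hw => h ▸ hψ w hw) hφ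

theorem mul_eq_one_iff (hc : ∀ a ∈ W₁, ∀ b ∈ W₂, a * b = b * a)
    {φ ψ : ↥(W₁ ⊔ W₂) →* ℂˣ} (hφ : ∀ w : ↥(W₁ ⊔ W₂), (w : G) ∈ W₂ → φ w = 1)
    (hψ : ∀ w : ↥(W₁ ⊔ W₂), (w : G) ∈ W₁ → ψ w = 1) : φ * ψ = 1 ↔ φ = 1 ∧ ψ = 1 := by
  refine ⟨fun h => ?_, fun ⟨h₁, h₂⟩ =>
    MonoidHom.ext fun w => by simp [h₁, h₂]⟩
  have happ : ∀ w, φ w * ψ w = 1 := fun w => DFunLike.congr_fun h w
  have h1 : φ = 1 := eq_one_of_eq hc (ψ := ψ⁻¹) hφ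
    (fun w hw => by rw [MonoidHom.inv_apply, hψ w hw, inv_one])
    (MonoidHom.ext fun w => by rw [MonoidHom.inv_apply]; exact eq_inv_of_mul_eq_one_left (happ w))
  exact ⟨h1, MonoidHom.ext fun w => by simpa [h1] using happ w⟩

theorem mul_eq_mul_iff (hc : ∀ a ∈ W₁, ∀ b ∈ W₂, a * b = b * a)
    {φ ψ φ' ψ' : ↥(W₁ ⊔ W₂) →* ℂˣ} (hφ : ∀ w : ↥(W₁ ⊔ W₂), (w : G) ∈ W₂ → φ w = 1)
    (hψ : ∀ w : ↥(W₁ ⊔ W₂), (w : G) ∈ W₁ → ψ w = 1)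
    (hφ' : ∀ w : ↥(W₁ ⊔ W₂), (w : G) ∈ W₂ → φ' w = 1)
    (hψ' : ∀ w : ↥(W₁ ⊔ W₂), (w : G) ∈ W₁ → ψ' w = 1) :
    φ * ψ = φ' * ψ' ↔ φ = φ' ∧ ψ = ψ' := by
  refine ⟨fun h => ?_, fun ⟨h₁, h₂⟩ => by rw [h₁, h₂]⟩
  have h1 := (mul_eq_one_iff hc (φ := φ / φ') (ψ := ψ / ψ')
    (fun w hw => by rw [MonoidHom.div_apply, hφ w hw, hφ' w hw, div_one])
    (fun w hw => by rw [MonoidHom.div_apply, hψ w hw, hψ' w hw, div_one])).1
    (MonoidHom.ext fun w => by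
      simp only [MonoidHom.mul_apply, MonoidHom.div_apply, MonoidHom.one_apply]
      rw [div_mul_div_comm, show φ w * ψ w = φ' w * ψ' w from DFunLike.congr_fun h w, div_self'])
  exact ⟨MonoidHom.ext fun w => div_eq_one.1 (DFunLike.congr_fun h1.1 w),
    MonoidHom.ext fun w => div_eq_one.1 (DFunLike.congr_fun h1.2 w)⟩

/-- The function `(1 - φ)(1 - ψ)`. -/
noncomputable def alpha (φ ψ : ↥(W₁ ⊔ W₂) →* ℂˣ) : ↥(W₁ ⊔ W₂) → ℂ :=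
  fun w => 1 - (φ w : ℂ) - (ψ w : ℂ) + (φ w : ℂ) * (ψ w : ℂ)

theorem alpha_eq_zero {φ ψ : ↥(W₁ ⊔ W₂) →* ℂˣ}
    (hφ : ∀ w : ↥(W₁ ⊔ W₂), (w : G) ∈ W₂ → φ w = 1)
    (hψ : ∀ w : ↥(W₁ ⊔ W₂), (w : G) ∈ W₁ → ψ w = 1) {w : ↥(W₁ ⊔ W₂)}
    (hw : (w : G) ∈ W₁ ∨ (w : G) ∈ W₂) : alpha φ ψ w = 0 := by
  rcases hw with hw | hw
  · simp [alpha, hψ w hw]
  · simp [alpha, hφ w hw]

section Fin

variable [Fintype G]

theorem classInner_hom {H : Type*} [Group H] [Fintype H] (f f' : H →* ℂˣ) [Decidable (f = f')] :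
    classInner (fun h => (f h : ℂ)) (fun h => (f' h : ℂ)) = if f = f' then 1 else 0 := by
  split
  · next h => subst h; exact classInner_irr_self (isIrrCharacter_hom f)
  · next h =>
    exact classInner_irr_ne (isIrrCharacter_hom f) (isIrrCharacter_hom f')
      fun e => h (MonoidHom.ext fun x => Units.ext (congrFun e x))

/-- `W \ (W₁ ∪ W₂)` is a trivial intersection set with normaliser `W`. -/
theorem mem_of_conj_mem (hW : Cfsg.IsSelfNormalizingCyclic W₁ W₂) {x g : G}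
    (hx : x ∈ W₁ ⊔ W₂) (hx₁ : x ∉ W₁) (hx₂ : x ∉ W₂) (hy : g * x * g⁻¹ ∈ W₁ ⊔ W₂)
    (hy₁ : g * x * g⁻¹ ∉ W₁) (hy₂ : g * x * g⁻¹ ∉ W₂) : g ∈ W₁ ⊔ W₂ := by
  obtain ⟨-, -, -, -, hcyc, hN⟩ := hW
  have h1 := hN {x} (Set.singleton_subset_iff.2 ⟨hx, fun h => h.elim hx₁ hx₂⟩)
    (Set.singleton_nonempty x)
  have h2 := hN {g * x * g⁻¹} (Set.singleton_subset_iff.2 ⟨hy, fun h => h.elim hy₁ hy₂⟩)
    (Set.singleton_nonempty _)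
  have hmem : ∀ z a : G, z ∈ Subgroup.normalizer ({a} : Set G) ↔ z * a * z⁻¹ = a := fun z a => by
    rw [Subgroup.mem_set_normalizer_iff]
    refine ⟨fun h => (h a).1 rfl, fun h b => ?_⟩
    show b = a ↔ z * b * z⁻¹ = a
    exact ⟨fun e => e ▸ h, fun e => mul_left_cancel (mul_right_cancel (e.trans h.symm))⟩
  have hnorm : ∀ w : G, w ∈ W₁ ⊔ W₂ ↔ g * w * g⁻¹ ∈ W₁ ⊔ W₂ := fun w => by
    conv_lhs => rw [← h1, hmem]
    conv_rhs => rw [← h2, hmem]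
    constructor <;> intro h
    · calc g * w * g⁻¹ * (g * x * g⁻¹) * (g * w * g⁻¹)⁻¹ = g * (w * x * w⁻¹) * g⁻¹ := by group
        _ = _ := by rw [h]
    · have e : g * (w * x * w⁻¹) * g⁻¹ = g * x * g⁻¹ := by
        rw [← h]; group
      exact mul_left_cancel (mul_right_cancel e)
  -- conjugation by `g` fixes every subgroup of the cyclic group `W`
  have hfix : ∀ A : Subgroup G, A ≤ W₁ ⊔ W₂ → ∀ a ∈ A, g * a * g⁻¹ ∈ A := by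
    intro A hA a ha
    have ha' : g * a * g⁻¹ ∈ A.map (MulAut.conj g).toMonoidHom := ⟨a, ha, rfl⟩
    have hle : A.map (MulAut.conj g).toMonoidHom ≤ W₁ ⊔ W₂ := by
      rintro _ ⟨b, hb, rfl⟩
      exact (hnorm b).1 (hA hb)
    have heq : A.map (MulAut.conj g).toMonoidHom = A :=
      HSub.subgroup_eq_of_card_eq hcyc hle hA
        (Subgroup.card_map_of_injective (MulAut.conj g).injective)
    rwa [heq] at ha'
  have hfix' : ∀ A : Subgroup G, A ≤ W₁ ⊔ W₂ → ∀ a : G, g * a * g⁻¹ ∈ A → a ∈ A := by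
    intro A hA a ha
    have haW : a ∈ W₁ ⊔ W₂ := (hnorm a).2 (hA ha)
    let f : A → A := fun b => ⟨g * b * g⁻¹, hfix A hA b b.2⟩
    have hinj : Function.Injective f := fun b c e =>
      Subtype.ext (mul_left_cancel (mul_right_cancel (congrArg Subtype.val e)))
    obtain ⟨b, hb⟩ := (Finite.injective_iff_surjective.1 hinj) ⟨_, ha⟩
    have := mul_left_cancel (mul_right_cancel (congrArg Subtype.val hb))
    exact this ▸ b.2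
  rw [← hN _ Set.Subset.rfl ⟨x, hx, fun h => h.elim hx₁ hx₂⟩, Subgroup.mem_set_normalizer_iff]
  intro a
  simp only [Set.mem_sdiff, Set.mem_union, SetLike.mem_coe]
  rw [hnorm a]
  have e₁ : a ∈ W₁ ↔ g * a * g⁻¹ ∈ W₁ := ⟨hfix _ le_sup_left a, hfix' _ le_sup_left a⟩
  have e₂ : a ∈ W₂ ↔ g * a * g⁻¹ ∈ W₂ := ⟨hfix _ le_sup_right a, hfix' _ le_sup_right a⟩
  rw [e₁, e₂]

open scoped _root_.Classical in
/-- Induction is the identity on functions supported off the two factors. -/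
theorem indFun_apply_coe (hW : Cfsg.IsSelfNormalizingCyclic W₁ W₂) {f : ↥(W₁ ⊔ W₂) → ℂ}
    (hf : ∀ w : ↥(W₁ ⊔ W₂), (w : G) ∈ W₁ ∨ (w : G) ∈ W₂ → f w = 0) {w : ↥(W₁ ⊔ W₂)}
    (hw₁ : (w : G) ∉ W₁) (hw₂ : (w : G) ∉ W₂) : indFun (W₁ ⊔ W₂) f w = f w := by
  have hcyc : IsCyclic ↥(W₁ ⊔ W₂) := hW.2.2.2.2.1
  have hcomm : ∀ a b : ↥(W₁ ⊔ W₂), a * b = b * a := fun a b => hcyc.isMulCommutative.is_comm.comm a b
  rw [indFun_apply]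
  have key : ∀ x : G, extendByZero (W₁ ⊔ W₂) f (x⁻¹ * w * x) =
      if x ∈ W₁ ⊔ W₂ then f w else 0 := by
    intro x
    by_cases hx : x ∈ W₁ ⊔ W₂
    · have e : x⁻¹ * (w : G) * x = w := by
        have := congrArg Subtype.val (hcomm w ⟨x, hx⟩)
        simp only [Subgroup.coe_mul] at this
        rw [mul_assoc, this, inv_mul_cancel_left]
      rw [if_pos hx, e, extendByZero_coe]
    · rw [if_neg hx]
      by_cases hm : x⁻¹ * (w : G) * x ∈ W₁ ⊔ W₂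
      · rw [extendByZero_of_mem _ _ hm]
        by_contra hne
        apply hx
        have h1 : x⁻¹ * (w : G) * x ∉ W₁ := fun h => hne (hf _ (Or.inl h))
        have h2 : x⁻¹ * (w : G) * x ∉ W₂ := fun h => hne (hf _ (Or.inr h))
        have := mem_of_conj_mem hW (g := x⁻¹) w.2 hw₁ hw₂ (by rwa [inv_inv]) (by rwa [inv_inv])
          (by rwa [inv_inv])
        exact inv_mem_iff.1 this
      · rw [extendByZero_of_not_mem _ _ hm]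
  rw [Finset.sum_congr rfl fun x _ => key x, Finset.sum_ite, Finset.sum_const_zero, add_zero,
    Finset.sum_const, nsmul_eq_mul, ← Fintype.card_subtype, ← Nat.card_eq_fintype_card,
    ← mul_assoc, inv_mul_cancel₀ card_ne_zero, one_mul]

/-- Induction is an isometry on functions supported off the two factors. -/
theorem classInner_indFun (hW : Cfsg.IsSelfNormalizingCyclic W₁ W₂) [Fintype ↥(W₁ ⊔ W₂)]
    {f f' : ↥(W₁ ⊔ W₂) → ℂ}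
    (hf : ∀ w : ↥(W₁ ⊔ W₂), (w : G) ∈ W₁ ∨ (w : G) ∈ W₂ → f w = 0)
    (hf' : ∀ w : ↥(W₁ ⊔ W₂), (w : G) ∈ W₁ ∨ (w : G) ∈ W₂ → f' w = 0) :
    classInner (indFun (W₁ ⊔ W₂) f) (indFun (W₁ ⊔ W₂) f') = classInner f f' := by
  rw [classInner_indFun_left _ f (isClassFunction_indFun _ f')]
  simp only [classInner]
  congr 1
  refine Finset.sum_congr rfl fun w _ => ?_
  by_cases h : (w : G) ∈ W₁ ∨ (w : G) ∈ W₂
  · rw [hf w h, zero_mul, zero_mul]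
  · rw [indFun_apply_coe hW hf' (fun h1 => h (Or.inl h1)) (fun h2 => h (Or.inr h2))]

theorem classInner_alpha_one [Fintype ↥(W₁ ⊔ W₂)] (hc : ∀ a ∈ W₁, ∀ b ∈ W₂, a * b = b * a)
    {φ ψ : ↥(W₁ ⊔ W₂) →* ℂˣ} (hφ : ∀ w : ↥(W₁ ⊔ W₂), (w : G) ∈ W₂ → φ w = 1)
    (hψ : ∀ w : ↥(W₁ ⊔ W₂), (w : G) ∈ W₁ → ψ w = 1) (hφ1 : φ ≠ 1) (hψ1 : ψ ≠ 1) :
    classInner (alpha φ ψ) (fun _ => 1) = 1 := by
  classical
  have e : alpha φ ψ = (fun w => ((1 : ↥(W₁ ⊔ W₂) →* ℂˣ) w : ℂ)) - (fun w => (φ w : ℂ)) -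
      (fun w => (ψ w : ℂ)) + (fun w => ((φ * ψ) w : ℂ)) := by
    funext w; simp [alpha]
  have e1 : (fun _ => (1 : ℂ)) = fun w => ((1 : ↥(W₁ ⊔ W₂) →* ℂˣ) w : ℂ) := by
    funext w; simp
  rw [e, e1, classInner_add_left, classInner_sub_left, classInner_sub_left, classInner_hom,
    classInner_hom, classInner_hom, classInner_hom, if_pos rfl, if_neg hφ1, if_neg hψ1,
    if_neg fun h => hφ1 ((mul_eq_one_iff hc hφ hψ).1 h).1]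
  ring

theorem classInner_alpha_alpha [Fintype ↥(W₁ ⊔ W₂)] (hc : ∀ a ∈ W₁, ∀ b ∈ W₂, a * b = b * a)
    {φ ψ φ' ψ' : ↥(W₁ ⊔ W₂) →* ℂˣ} (hφ : ∀ w : ↥(W₁ ⊔ W₂), (w : G) ∈ W₂ → φ w = 1)
    (hψ : ∀ w : ↥(W₁ ⊔ W₂), (w : G) ∈ W₁ → ψ w = 1)
    (hφ' : ∀ w : ↥(W₁ ⊔ W₂), (w : G) ∈ W₂ → φ' w = 1)
    (hψ' : ∀ w : ↥(W₁ ⊔ W₂), (w : G) ∈ W₁ → ψ' w = 1)
    (hφ1 : φ ≠ 1) (hψ1 : ψ ≠ 1) (hφ1' : φ' ≠ 1) (hψ1' : ψ' ≠ 1)
    [Decidable (φ = φ')] [Decidable (ψ = ψ')] :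
    classInner (alpha φ ψ) (alpha φ' ψ') = 1 + (if φ = φ' then 1 else 0) +
      (if ψ = ψ' then 1 else 0) +
      (if φ = φ' then 1 else 0) * (if ψ = ψ' then 1 else 0) := by
  classical
  have e : ∀ a b : ↥(W₁ ⊔ W₂) →* ℂˣ, alpha a b =
      (fun w => ((1 : ↥(W₁ ⊔ W₂) →* ℂˣ) w : ℂ)) - (fun w => (a w : ℂ)) -
      (fun w => (b w : ℂ)) + (fun w => ((a * b) w : ℂ)) := fun a b => by
    funext w; simp [alpha]
  have h1 := fun h => hφ1 ((mul_eq_one_iff hc hφ hψ).1 h).1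
  have h1' := fun h => hφ1' ((mul_eq_one_iff hc hφ' hψ').1 h).1
  have h2 : φ ≠ ψ' := fun h => hφ1 (eq_one_of_eq hc hφ hψ' h)
  have h3 : ψ ≠ φ' := fun h => hφ1' (eq_one_of_eq hc hφ' hψ h.symm)
  have one_right : ∀ a : ↥(W₁ ⊔ W₂) →* ℂˣ, a = a * 1 := fun a => (mul_one a).symm
  have hone : ∀ w : ↥(W₁ ⊔ W₂), (w : G) ∈ W₁ → (1 : ↥(W₁ ⊔ W₂) →* ℂˣ) w = 1 := fun _ _ => rfl
  have hone' : ∀ w : ↥(W₁ ⊔ W₂), (w : G) ∈ W₂ → (1 : ↥(W₁ ⊔ W₂) →* ℂˣ) w = 1 := fun _ _ => rfl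
  have h4 : φ ≠ φ' * ψ' := fun h => hψ1'
    ((mul_eq_mul_iff hc hφ hone hφ' hψ').1 ((MonoidHom.ext fun w => by simp).trans h)).2.symm
  have h5 : ψ ≠ φ' * ψ' := fun h => hφ1'
    ((mul_eq_mul_iff hc hone' hψ hφ' hψ').1 ((MonoidHom.ext fun w => by simp).trans h)).1.symm
  have h6 : φ * ψ ≠ φ' := fun h => hψ1
    ((mul_eq_mul_iff hc hφ hψ hφ' hone).1 (h.trans (MonoidHom.ext fun w => by simp))).2
  have h7 : φ * ψ ≠ ψ' := fun h => hφ1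
    ((mul_eq_mul_iff hc hφ hψ hone' hψ').1 (h.trans (MonoidHom.ext fun w => by simp))).1
  rw [e φ ψ, e φ' ψ']
  simp only [classInner_add_left, classInner_sub_left, classInner_add_right, classInner_sub_right,
    classInner_hom, if_true, if_neg hφ1, if_neg hψ1, if_neg h1, if_neg hφ1'.symm,
    if_neg hψ1'.symm, if_neg (Ne.symm h1'), if_neg h2, if_neg h3, if_neg h4, if_neg h5, if_neg h6,
    if_neg h7]
  have h8 : (if φ * ψ = φ' * ψ' then (1 : ℂ) else 0) =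
      (if φ = φ' then 1 else 0) * (if ψ = ψ' then 1 else 0) := by
    by_cases h : φ * ψ = φ' * ψ'
    · obtain ⟨rfl, rfl⟩ := (mul_eq_mul_iff hc hφ hψ hφ' hψ').1 h
      simp
    · rw [if_neg h]
      split_ifs with a b <;> simp
      exact h (by rw [a, b])
  rw [h8]
  ring

variable {χ : (↥(W₁ ⊔ W₂) →* ℂˣ) → (G → ℂ)} {θ : G → ℂ}

/-- The four-term relation. -/
theorem coeff_add [Fintype ↥(W₁ ⊔ W₂)] (hχ : Cfsg.IsCyclicTIFamily W₁ W₂ χ)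
    (hθ : IsClassFunction G θ)
    (hθV : ∀ w : ↥(W₁ ⊔ W₂), (w : G) ∉ W₁ → (w : G) ∉ W₂ → θ w = 0)
    {φ ψ : ↥(W₁ ⊔ W₂) →* ℂˣ} (hφ : ∀ w : ↥(W₁ ⊔ W₂), (w : G) ∈ W₂ → φ w = 1)
    (hψ : ∀ w : ↥(W₁ ⊔ W₂), (w : G) ∈ W₁ → ψ w = 1) :
    classInner θ (χ (φ * ψ)) + classInner θ (χ 1) = classInner θ (χ φ) + classInner θ (χ ψ) := by
  by_cases h1 : φ = 1
  · rw [show φ * ψ = ψ from (congrArg (· * ψ) h1).trans (one_mul ψ), h1]; ring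
  by_cases h2 : ψ = 1
  · rw [show φ * ψ = φ from (congrArg (φ * ·) h2).trans (mul_one φ), h2]
  have h3 := classInner_indFun_right (W₁ ⊔ W₂) (alpha φ ψ) hθ
  have h4 : classInner (fun w : ↥(W₁ ⊔ W₂) => θ w) (alpha φ ψ) = 0 := by
    simp only [classInner]
    rw [Finset.sum_eq_zero fun w _ => ?_, mul_zero]
    by_cases h : (w : G) ∈ W₁ ∨ (w : G) ∈ W₂
    · rw [alpha_eq_zero hφ hψ h, map_zero, mul_zero]
    · rw [hθV w (fun h1 => h (Or.inl h1)) (fun h2 => h (Or.inr h2)), zero_mul]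
  have h5 : indFun (W₁ ⊔ W₂) (alpha φ ψ) = χ 1 - χ φ - χ ψ + χ (φ * ψ) := by
    rw [show indFun (W₁ ⊔ W₂) (alpha φ ψ) = _ from hχ.induced_eq φ ψ h1 h2 hφ hψ, hχ.map_one]
    funext g
    simp
  rw [h5, h4, classInner_add_right, classInner_sub_right, classInner_sub_right] at h3
  linear_combination h3

/-! ## The vanishing criterion -/

theorem exists_hom_ne_one (hW : IsCyclic ↥(W₁ ⊔ W₂)) {N : Subgroup G} {x : ↥(W₁ ⊔ W₂)}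
    (hx : (x : G) ∉ N) :
    ∃ f : ↥(W₁ ⊔ W₂) →* ℂˣ, (∀ w : ↥(W₁ ⊔ W₂), (w : G) ∈ N → f w = 1) ∧ f x ≠ 1 := by
  have : IsMulCommutative ↥(W₁ ⊔ W₂) := hW.isMulCommutative
  have : (N.subgroupOf (W₁ ⊔ W₂)).Normal := inferInstance
  have hne : (x : ↥(W₁ ⊔ W₂) ⧸ N.subgroupOf (W₁ ⊔ W₂)) ≠ 1 := fun h =>
    hx (Subgroup.mem_subgroupOf.1 ((QuotientGroup.eq_one_iff x).1 h))
  obtain ⟨χ, hχ⟩ := exists_irr_ne_at_one hne
  have h1 := IsIrr.degree_one_of_comm χ.2 fun a b => show a * b = b * a by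
    obtain ⟨a, rfl⟩ := QuotientGroup.mk_surjective a
    obtain ⟨b, rfl⟩ := QuotientGroup.mk_surjective b
    rw [← QuotientGroup.mk_mul, ← QuotientGroup.mk_mul, hW.isMulCommutative.is_comm.comm]
  obtain ⟨f, hf⟩ := IsChar.exists_hom (IsIrr.isCharacter χ.2) h1
  refine ⟨f.comp (QuotientGroup.mk' _), fun w hw => ?_, fun h => hχ ?_⟩
  · rw [MonoidHom.comp_apply, QuotientGroup.mk'_apply,
      (QuotientGroup.eq_one_iff w).2 (Subgroup.mem_subgroupOf.2 hw), map_one]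
  · rw [hf]
    simp only [MonoidHom.comp_apply, QuotientGroup.mk'_apply] at h
    simp [h]

open scoped _root_.Classical in
theorem sum_hom (hW : IsCyclic ↥(W₁ ⊔ W₂)) (N : Subgroup G)
    [Fintype {f : ↥(W₁ ⊔ W₂) →* ℂˣ // ∀ w : ↥(W₁ ⊔ W₂), (w : G) ∈ N → f w = 1}]
    (x : ↥(W₁ ⊔ W₂)) :
    ∑ f : {f : ↥(W₁ ⊔ W₂) →* ℂˣ // ∀ w : ↥(W₁ ⊔ W₂), (w : G) ∈ N → f w = 1}, (f.1 x : ℂ) =
      if (x : G) ∈ N then
        (Nat.card {f : ↥(W₁ ⊔ W₂) →* ℂˣ // ∀ w : ↥(W₁ ⊔ W₂), (w : G) ∈ N → f w = 1} : ℂ)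
      else 0 := by
  split
  · next h =>
    rw [Finset.sum_congr rfl fun f _ => show (f.1 x : ℂ) = 1 by rw [f.2 x h, Units.val_one],
      Finset.sum_const, Finset.card_univ, nsmul_eq_mul, mul_one, Nat.card_eq_fintype_card]
  · next h =>
    obtain ⟨g, hg, hgx⟩ := exists_hom_ne_one hW h
    let e : {f : ↥(W₁ ⊔ W₂) →* ℂˣ // ∀ w : ↥(W₁ ⊔ W₂), (w : G) ∈ N → f w = 1} ≃
        {f : ↥(W₁ ⊔ W₂) →* ℂˣ // ∀ w : ↥(W₁ ⊔ W₂), (w : G) ∈ N → f w = 1} :=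
      Equiv.subtypeEquiv (Equiv.mulRight g) fun f =>
        ⟨fun hf w hw => by simp [hf w hw, hg w hw],
          fun hf w hw => by simpa [hg w hw] using hf w hw⟩
    have h1 := Equiv.sum_comp e fun f => (f.1 x : ℂ)
    simp only [e, Equiv.subtypeEquiv_apply, Equiv.coe_mulRight, MonoidHom.mul_apply, Units.val_mul,
      ← Finset.sum_mul] at h1
    by_contra hne
    exact hgx (Units.ext (mul_left_cancel₀ hne (h1.trans (mul_one _).symm)))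

theorem vanish_of_orth (hW : Cfsg.IsSelfNormalizingCyclic W₁ W₂) [Fintype ↥(W₁ ⊔ W₂)]
    {θ : ↥(W₁ ⊔ W₂) → ℂ}
    (horth : ∀ φ ψ : ↥(W₁ ⊔ W₂) →* ℂˣ, (∀ w : ↥(W₁ ⊔ W₂), (w : G) ∈ W₂ → φ w = 1) →
      (∀ w : ↥(W₁ ⊔ W₂), (w : G) ∈ W₁ → ψ w = 1) → φ ≠ 1 → ψ ≠ 1 →
      classInner θ (alpha φ ψ) = 0) {v : ↥(W₁ ⊔ W₂)}
    (hv₁ : (v : G) ∉ W₁) (hv₂ : (v : G) ∉ W₂) : θ v = 0 := by
  classical
  obtain ⟨-, -, hdis, hc, hcyc, -⟩ := hW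
  have : Finite (↥(W₁ ⊔ W₂) →* ℂˣ) := Finite.of_injective
    (fun f => (⟨fun w => (f w : ℂ), isIrrCharacter_hom f⟩ : IrrCharacter ↥(W₁ ⊔ W₂)))
    fun f g h => MonoidHom.ext fun w => Units.ext (congrFun (congrArg Subtype.val h) w)
  have := Fintype.ofFinite {f : ↥(W₁ ⊔ W₂) →* ℂˣ // ∀ w : ↥(W₁ ⊔ W₂), (w : G) ∈ W₁ → f w = 1}
  have := Fintype.ofFinite {f : ↥(W₁ ⊔ W₂) →* ℂˣ // ∀ w : ↥(W₁ ⊔ W₂), (w : G) ∈ W₂ → f w = 1}
  have hzero : ∀ φ ψ : ↥(W₁ ⊔ W₂) →* ℂˣ, (∀ w : ↥(W₁ ⊔ W₂), (w : G) ∈ W₂ → φ w = 1) →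
      (∀ w : ↥(W₁ ⊔ W₂), (w : G) ∈ W₁ → ψ w = 1) →
      ∑ w : ↥(W₁ ⊔ W₂), θ w * ((1 - (φ w⁻¹ : ℂ)) * (1 - (ψ w⁻¹ : ℂ))) = 0 := by
    intro φ ψ hφ hψ
    by_cases h1 : φ = 1
    · simp [h1]
    by_cases h2 : ψ = 1
    · simp [h2]
    have h3 := horth φ ψ hφ hψ h1 h2
    simp only [classInner] at h3
    have h6 := (mul_eq_zero.1 h3).resolve_left (inv_ne_zero card_ne_zero)
    rw [← h6]
    refine Finset.sum_congr rfl fun w _ => ?_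
    have hcj : ∀ f : ↥(W₁ ⊔ W₂) →* ℂˣ, (f w⁻¹ : ℂ) = conj (f w : ℂ) := fun f =>
      IsChar.inv_eq_conj (isCharacter_hom f) w
    congr 1
    simp only [alpha, map_add, map_sub, map_one, map_mul, hcj]
    ring
  have key : ∑ w : ↥(W₁ ⊔ W₂), θ w *
      ((∑ φ : {f : ↥(W₁ ⊔ W₂) →* ℂˣ // ∀ w : ↥(W₁ ⊔ W₂), (w : G) ∈ W₂ → f w = 1},
          ((φ.1 v : ℂ) - φ.1 (v * w⁻¹))) *
        ∑ ψ : {f : ↥(W₁ ⊔ W₂) →* ℂˣ // ∀ w : ↥(W₁ ⊔ W₂), (w : G) ∈ W₁ → f w = 1},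
          ((ψ.1 v : ℂ) - ψ.1 (v * w⁻¹))) = 0 := by
    simp only [Finset.sum_mul_sum]
    simp only [Finset.mul_sum]
    rw [Finset.sum_comm, Finset.sum_eq_zero]
    intro φ _
    rw [Finset.sum_comm, Finset.sum_eq_zero]
    intro ψ _
    rw [← mul_zero ((φ.1 v : ℂ) * ψ.1 v), ← hzero φ.1 ψ.1 φ.2 ψ.2, Finset.mul_sum]
    refine Finset.sum_congr rfl fun w _ => ?_
    simp only [map_mul, Units.val_mul]
    ring
  simp only [Finset.sum_sub_distrib, sum_hom hcyc, if_neg hv₁, if_neg hv₂, zero_sub, neg_mul_neg]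
    at key
  rw [Finset.sum_eq_single v (fun w _ hw => ?_) (by simp)] at key
  · simp only [mul_inv_cancel, OneMemClass.coe_one, one_mem, if_true] at key
    have hne : ∀ N : Subgroup G,
        (Nat.card {f : ↥(W₁ ⊔ W₂) →* ℂˣ // ∀ w : ↥(W₁ ⊔ W₂), (w : G) ∈ N → f w = 1} : ℂ) ≠ 0 :=
      fun N => by
        have : Nonempty {f : ↥(W₁ ⊔ W₂) →* ℂˣ // ∀ w : ↥(W₁ ⊔ W₂), (w : G) ∈ N → f w = 1} :=
          ⟨⟨1, fun _ _ => rfl⟩⟩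
        exact Nat.cast_ne_zero.2 Nat.card_pos.ne'
    exact (mul_eq_zero.1 key).resolve_right (mul_ne_zero (hne W₂) (hne W₁))
  · split_ifs with h h'
    · exact absurd (eq_of_mul_inv_eq_one (Subtype.ext (Subgroup.mem_bot.1
        (hdis ▸ Subgroup.mem_inf.2 ⟨h', h⟩)))).symm hw
    all_goals simp

theorem vanish (hW : Cfsg.IsSelfNormalizingCyclic W₁ W₂) (hχ : Cfsg.IsCyclicTIFamily W₁ W₂ χ)
    (hθ : IsClassFunction G θ) (horth : ∀ ω, classInner θ (χ ω) = 0) {v : ↥(W₁ ⊔ W₂)}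
    (hv₁ : (v : G) ∉ W₁) (hv₂ : (v : G) ∉ W₂) : θ v = 0 := by
  classical
  have := Fintype.ofFinite ↥(W₁ ⊔ W₂)
  refine vanish_of_orth hW (θ := fun w : ↥(W₁ ⊔ W₂) => θ w) (fun φ ψ hφ hψ h1 h2 => ?_) hv₁ hv₂
  have h5 : indFun (W₁ ⊔ W₂) (alpha φ ψ) = χ 1 - χ φ - χ ψ + χ (φ * ψ) := by
    rw [show indFun (W₁ ⊔ W₂) (alpha φ ψ) = _ from hχ.induced_eq φ ψ h1 h2 hφ hψ, hχ.map_one]
    funext g
    simp
  rw [← classInner_indFun_right (W₁ ⊔ W₂) (alpha φ ψ) hθ, h5, classInner_add_right,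
    classInner_sub_right, classInner_sub_right, horth, horth, horth, horth]
  ring

end Fin

end Cfsg.Agent.CyclicTI
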