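import Cfsg.Agent.CyclicTI.Grid

/-!
# Decomposition of a grid of norm three vectors into signed units
-/

namespace Cfsg.Agent.CyclicTI.Grid

variable {ι : Type*} [Fintype ι] {I J : Type*}

/-- A grid of norm three vectors, with a degree functional constant on it. -/
structure IsGrid [DecidableEq I] [DecidableEq J] (B : I → J → ι → ℤ) : Prop where
  gram : ∀ i j k l, dot (B i j) (B k l) = (if i = k then 1 else 0) + (if j = l then 1 else 0) +
    (if i = k then 1 else 0) * (if j = l then 1 else 0)
  deg : ∃ d : ι → ℤ, (∀ p, d p ≠ 0) ∧ ∀ i j k l, ∑ p, d p * B i j p = ∑ p, d p * B k l p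

variable [DecidableEq I] [DecidableEq J] {B : I → J → ι → ℤ}

theorem IsGrid.norm (h : IsGrid B) (i : I) (j : J) : dot (B i j) (B i j) = 3 := by
  rw [h.gram]; simp

theorem IsGrid.row (h : IsGrid B) (i : I) : IsLine fun j => B i j where
  norm j := h.norm i j
  inner j l hjl := by rw [h.gram]; simp [hjl]
  pos j l p := by
    by_cases hjl : j = l
    · subst hjl; exact mul_self_nonneg _
    · obtain ⟨d, hd, hd'⟩ := h.deg
      exact nonneg_of_deg d hd (h.norm i j) (h.norm i l) (by rw [h.gram]; simp [hjl])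
        (hd' i j i l) p

theorem IsGrid.swap (h : IsGrid B) : IsGrid fun j i => B i j where
  gram j i l k := by rw [h.gram]; ring
  deg := by
    obtain ⟨d, hd, hd'⟩ := h.deg
    exact ⟨d, hd, fun j i l k => hd' i j k l⟩

theorem IsGrid.cross (h : IsGrid B) {i k : I} (hik : k ≠ i) (j l : J) :
    dot (B k j) (B i l) = if j = l then 1 else 0 := by
  rw [h.gram]; simp [hik]

/-- **Decomposition**: every member of the grid is `x i + y j + z i j`, the `x`, `y`, `z` being
signed units at distinct points. -/
theorem IsGrid.decomp [Fintype I] [Fintype J] (h : IsGrid B) (hI : 2 ≤ Fintype.card I)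
    (hI' : Fintype.card I = 2 ∨ 4 ≤ Fintype.card I) (hJ : 4 ≤ Fintype.card J) :
    ∃ P : (I ⊕ J) ⊕ I × J → ι, Function.Injective P ∧
      ∃ S : (I ⊕ J) ⊕ I × J → ℤ, (∀ l, S l = 1 ∨ S l = -1) ∧
        ∀ (i : I) (j : J) (p : ι) [Decidable (P (.inl (.inl i)) = p)]
          [Decidable (P (.inl (.inr j)) = p)] [Decidable (P (.inr (i, j)) = p)],
          B i j p = (if P (.inl (.inl i)) = p then S (.inl (.inl i)) else 0) +
            (if P (.inl (.inr j)) = p then S (.inl (.inr j)) else 0) +
            (if P (.inr (i, j)) = p then S (.inr (i, j)) else 0) := by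
  classical
  have hother : ∀ i : I, ∃ k, k ≠ i := fun i =>
    Fintype.exists_ne_of_one_lt_card (by omega) i
  choose a ha using fun i => show ∃ a, ∀ j, B i j a ≠ 0 by
    obtain ⟨k, hk⟩ := hother i
    exact exists_centre (h.row i) (h.row k) (fun j l => h.cross hk j l) hJ
  -- the centre of a row is absent from the other rows
  have hfar : ∀ i k l, k ≠ i → B k l (a i) = 0 := by
    intro i k l hki
    by_contra hne
    have hex : ∀ j : {j : J // j ≠ l}, ∃ q, q ≠ a i ∧ B i j q ≠ 0 ∧ B k l q ≠ 0 := by
      intro j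
      by_contra! hno
      have h0 : dot (B i j) (B k l) = 0 := by rw [h.gram]; simp [hki.symm, j.2]
      rw [dot, Finset.sum_eq_single (a i) (fun q _ hq => by
        by_cases hb : B i j q = 0
        · rw [hb, zero_mul]
        · rw [hno q hq hb, mul_zero]) (by simp)] at h0
      exact (mul_ne_zero (ha i j) hne) h0
    choose q hq1 hq2 hq3 using hex
    have hinj : Function.Injective q := by
      intro x y hxy
      by_contra hne'
      obtain ⟨c, -, -, hc⟩ := (h.row i).meet (fun e => hne' (Subtype.ext e))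
      exact hq1 x ((hc _ (hq2 x) (hxy ▸ hq2 y)).trans (hc _ (ha i x) (ha i y)).symm)
    have h2 : (Finset.univ.image q).card ≤
        ((Finset.univ.filter fun p => B k l p ≠ 0).erase (a i)).card := by
      refine Finset.card_le_card fun p hp => ?_
      obtain ⟨x, -, rfl⟩ := Finset.mem_image.1 hp
      simp [hq1, hq3]
    rw [Finset.card_image_of_injective _ hinj, Finset.card_univ, Fintype.card_subtype_compl,
      Fintype.card_subtype_eq, Finset.card_erase_of_mem (by simp [hne]),
      card_supp (h.norm k l)] at h2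
    omega
  -- the centres of the columns
  have hcol : ∀ j, ∃ b, ∀ i, B i j b ≠ 0 := by
    intro j
    rcases hI' with h2 | h4
    · obtain ⟨i, k, hik, huniv⟩ : ∃ i k : I, i ≠ k ∧ ({i, k} : Finset I) = Finset.univ := by
        obtain ⟨i, k, hik, he⟩ := Finset.card_eq_two.1 ((Finset.card_univ (α := I)).trans h2)
        exact ⟨i, k, hik, he.symm⟩
      obtain ⟨b, hb, hb', -⟩ := (h.swap.row j).meet hik
      refine ⟨b, fun m => ?_⟩
      have : m ∈ ({i, k} : Finset I) := huniv ▸ Finset.mem_univ m
      simp only [Finset.mem_insert, Finset.mem_singleton] at this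
      rcases this with rfl | rfl <;> assumption
    · obtain ⟨l, hl⟩ := Fintype.exists_ne_of_one_lt_card (show 1 < Fintype.card J by omega) j
      exact exists_centre (h.swap.row j) (h.swap.row l) (fun i k => h.swap.cross hl i k) h4
  choose b hb using hcol
  have hab : ∀ i j, a i ≠ b j := fun i j e => by
    obtain ⟨k, hk⟩ := hother i
    exact hb j k (e ▸ hfar i k j hk)
  choose c hca hcb hc hs using fun i j => supp_eq_three (h.norm i j) (hab i j) (ha i j) (hb j i)
  have hrow : ∀ i j l q, j ≠ l → B i j q ≠ 0 → B i l q ≠ 0 → q = a i := fun i j l q hjl h1 h2 => by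
    obtain ⟨d, -, -, hd⟩ := (h.row i).meet hjl
    exact (hd q h1 h2).trans (hd _ (ha i j) (ha i l)).symm
  have hcolu : ∀ i k j q, i ≠ k → B i j q ≠ 0 → B k j q ≠ 0 → q = b j := fun i k j q hik h1 h2 => by
    obtain ⟨d, -, -, hd⟩ := (h.swap.row j).meet hik
    exact (hd q h1 h2).trans (hd _ (hb j i) (hb j k)).symm
  have hai : Function.Injective a := fun i k e => by
    by_contra hne
    obtain ⟨j⟩ : Nonempty J := Fintype.card_pos_iff.1 (by omega)
    exact ha i j (e ▸ hfar k i j hne)
  have hbi : Function.Injective b := fun j l e => by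
    by_contra hne
    obtain ⟨i⟩ : Nonempty I := Fintype.card_pos_iff.1 (by omega)
    exact hab i j (hrow i j l (b j) hne (hb j i) (e ▸ hb l i)).symm
  have hca' : ∀ i j k, c i j ≠ a k := fun i j k e => by
    by_cases hik : i = k
    · exact hca i j (hik ▸ e)
    · exact hc i j (e ▸ hfar k i j hik)
  have hcb' : ∀ i j l, c i j ≠ b l := fun i j l e => by
    by_cases hjl : j = l
    · exact hcb i j (hjl ▸ e)
    · exact hca i j (hrow i j l _ hjl (hc i j) (e ▸ hb l i))
  have hci : ∀ i j k l, c i j = c k l → i = k ∧ j = l := by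
    intro i j k l e
    by_cases hik : i = k
    · subst hik
      refine ⟨rfl, ?_⟩
      by_contra hjl
      exact hca i j (hrow i j l _ hjl (hc i j) (e ▸ hc i l))
    exfalso
    by_cases hjl : j = l
    · subst hjl
      exact hcb i j (hcolu i k j _ hik (hc i j) (e ▸ hc k j))
    have h0 : dot (B k l) (B i j) = 0 := by rw [h.gram]; simp [Ne.symm hik, Ne.symm hjl]
    have hbz : B k l (b j) = 0 := by
      by_contra hne
      exact hab k j (hrow k j l (b j) hjl (hb j k) hne).symm
    rw [dot_of_supp (hab i j) (hca i j).symm (hcb i j).symm (hs i j), hfar i k l (Ne.symm hik),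
      hbz, zero_mul, zero_mul, zero_add, zero_add] at h0
    exact mul_ne_zero (e ▸ hc k l) (hc i j) h0
  let P : (I ⊕ J) ⊕ I × J → ι := Sum.elim (Sum.elim a b) fun x => c x.1 x.2
  obtain ⟨i₀⟩ : Nonempty I := Fintype.card_pos_iff.1 (by omega)
  obtain ⟨j₀⟩ : Nonempty J := Fintype.card_pos_iff.1 (by omega)
  let S : (I ⊕ J) ⊕ I × J → ℤ :=
    Sum.elim (Sum.elim (fun i => B i j₀ (a i)) fun j => B i₀ j (b j))
      fun x => B x.1 x.2 (c x.1 x.2)
  refine ⟨P, ?_, S, ?_, ?_⟩
  · rintro ((i | j) | ⟨i, j⟩) ((k | l) | ⟨k, l⟩) e <;> simp only [P, Sum.elim_inl, Sum.elim_inr] at e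
    · rw [hai e]
    · exact absurd e (hab i l)
    · exact absurd e.symm (hca' k l i)
    · exact absurd e.symm (hab k j)
    · rw [hbi e]
    · exact absurd e.symm (hcb' k l j)
    · exact absurd e (hca' i j k)
    · exact absurd e (hcb' i j l)
    · obtain ⟨rfl, rfl⟩ := hci i j k l e; rfl
  · have unit : ∀ i j q, B i j q ≠ 0 → B i j q = 1 ∨ B i j q = -1 := fun i j q hq => by
      rcases entry_cases (h.norm i j) q with e | e | e
      exacts [Or.inr e, absurd e hq, Or.inl e]
    rintro ((i | j) | ⟨i, j⟩)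
    exacts [unit _ _ _ (ha i j₀), unit _ _ _ (hb j i₀), unit _ _ _ (hc i j)]
  · intro i j p _ _ _
    have e1 : B i j (a i) = B i j₀ (a i) := (h.row i).same (ha i j) (ha i j₀)
    have e2 : B i j (b j) = B i₀ j (b j) := (h.swap.row j).same (hb j i) (hb j i₀)
    simp only [P, S, Sum.elim_inl, Sum.elim_inr, ← e1, ← e2]
    by_cases hp : B i j p = 0
    · rw [hp]
      split_ifs with h1 h2 h3 h4 h5 h6 h7 <;> subst_vars <;> simp_all
    · rcases hs i j p hp with rfl | rfl | rfl
      · simp [(hab i j).symm, hca i j]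
      · simp [hab i j, hcb i j]
      · simp [(hca i j).symm, (hcb i j).symm]

end Cfsg.Agent.CyclicTI.Grid
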