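import Cfsg.Agent.CyclicTI.Basic
import Cfsg.Agent.CyclicTI.Decomp

/-!
# The family of characters attached to a self-normalising cyclic pair
-/

namespace Cfsg.Agent.CyclicTI

open Char
open scoped ComplexConjugate

universe u

variable {G : Type u} [Group G] [Fintype G] {W₁ W₂ : Subgroup G}

theorem coprime_card (hW : Cfsg.IsSelfNormalizingCyclic W₁ W₂) :
    (Nat.card W₁).Coprime (Nat.card W₂) := by
  obtain ⟨-, -, hdis, -, hcyc, -⟩ := hW
  by_contra h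
  obtain ⟨p, hp, hd⟩ := Nat.exists_prime_and_dvd h
  have := Fact.mk hp
  obtain ⟨a, ha⟩ := exists_prime_orderOf_dvd_card' (G := W₁) p (hd.trans (Nat.gcd_dvd_left _ _))
  obtain ⟨b, hb⟩ := exists_prime_orderOf_dvd_card' (G := W₂) p (hd.trans (Nat.gcd_dvd_right _ _))
  have h1 : Subgroup.zpowers (a : G) = Subgroup.zpowers (b : G) :=
    HSub.subgroup_eq_of_card_eq hcyc (Subgroup.zpowers_le.2 (Subgroup.mem_sup_left a.2))
      (Subgroup.zpowers_le.2 (Subgroup.mem_sup_right b.2))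
      (by rw [Nat.card_zpowers, Nat.card_zpowers, Subgroup.orderOf_coe, Subgroup.orderOf_coe,
        ha, hb])
  have h2 : (a : G) ∈ W₁ ⊓ W₂ :=
    ⟨a.2, Subgroup.zpowers_le.2 b.2 (h1 ▸ Subgroup.mem_zpowers (a : G))⟩
  rw [hdis, Subgroup.mem_bot] at h2
  rw [← Subgroup.orderOf_coe, h2, orderOf_one] at ha
  exact hp.ne_one ha.symm

theorem card_sup (hW : Cfsg.IsSelfNormalizingCyclic W₁ W₂) :
    Nat.card ↥(W₁ ⊔ W₂) = Nat.card W₁ * Nat.card W₂ := by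
  obtain ⟨-, -, hdis, hc, -, -⟩ := hW
  rw [← Nat.card_prod]
  refine (Nat.card_eq_of_bijective
    (fun x : W₁ × W₂ => (⟨(x.1 : G) * x.2, Subgroup.mul_mem_sup x.1.2 x.2.2⟩ : ↥(W₁ ⊔ W₂)))
    ⟨?_, ?_⟩).symm
  · rintro ⟨a, b⟩ ⟨a', b'⟩ h
    have h1 : (a : G) * b = a' * b' := congrArg Subtype.val h
    have h2 : (a' : G)⁻¹ * a ∈ W₁ ⊓ W₂ := by
      refine ⟨W₁.mul_mem (W₁.inv_mem a'.2) a.2, ?_⟩
      rw [show (a' : G)⁻¹ * a = b' * (b : G)⁻¹ by
        rw [eq_mul_inv_iff_mul_eq, mul_assoc, h1, inv_mul_cancel_left]]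
      exact W₂.mul_mem b'.2 (W₂.inv_mem b.2)
    rw [hdis, Subgroup.mem_bot, inv_mul_eq_one] at h2
    rw [h2] at h1
    exact Prod.ext (Subtype.ext h2.symm) (Subtype.ext (mul_left_cancel h1))
  · intro w
    obtain ⟨a, ha, b, hb, e⟩ := (mem_sup_iff hc).1 w.2
    exact ⟨(⟨a, ha⟩, ⟨b, hb⟩), Subtype.ext e⟩

theorem finite_hom (W : Subgroup G) : Finite (W →* ℂˣ) := Finite.of_injective
  (fun f => (⟨fun w => (f w : ℂ), isIrrCharacter_hom f⟩ : IrrCharacter W))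
  fun f g h => MonoidHom.ext fun w => Units.ext (congrFun (congrArg Subtype.val h) w)

/-- The `k`-th power of a linear character. -/
def powHom {W : Subgroup G} (f : W →* ℂˣ) (k : ℕ) : W →* ℂˣ where
  toFun w := (f w) ^ k
  map_one' := by simp
  map_mul' a b := by simp [mul_pow]

theorem powHom_apply {W : Subgroup G} (f : W →* ℂˣ) (k : ℕ) (w : W) : powHom f k w = f w ^ k := rfl

theorem exists_split {A B : Subgroup G} (h : (Nat.card A).Coprime (Nat.card B)) :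
    ∃ k : ℕ, (∀ a ∈ A, a ^ k = a) ∧ ∀ b ∈ B, b ^ k = 1 := by
  obtain ⟨k, hk1, hk2⟩ := Nat.chineseRemainder h 1 0
  refine ⟨k, fun a ha => ?_, fun b hb => ?_⟩
  · have ha1 : a ^ Nat.card A = 1 :=
      congrArg Subtype.val (pow_card_eq_one' (x := (⟨a, ha⟩ : A)))
    rw [pow_eq_pow_mod k ha1, hk1, ← pow_eq_pow_mod 1 ha1, pow_one]
  · have hb1 : b ^ Nat.card B = 1 :=
      congrArg Subtype.val (pow_card_eq_one' (x := (⟨b, hb⟩ : B)))
    rw [pow_eq_pow_mod k hb1, hk2, Nat.zero_mod, pow_zero]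

/-- Every linear character of `W` splits. -/
theorem exists_mul_eq (hW : Cfsg.IsSelfNormalizingCyclic W₁ W₂) (ω : ↥(W₁ ⊔ W₂) →* ℂˣ) :
    ∃ φ ψ : ↥(W₁ ⊔ W₂) →* ℂˣ, (∀ w : ↥(W₁ ⊔ W₂), (w : G) ∈ W₂ → φ w = 1) ∧
      (∀ w : ↥(W₁ ⊔ W₂), (w : G) ∈ W₁ → ψ w = 1) ∧ φ * ψ = ω := by
  obtain ⟨k, hk1, hk2⟩ := exists_split (coprime_card hW)
  obtain ⟨l, hl1, hl2⟩ := exists_split (coprime_card hW).symm
  have hz : ∀ (n : ℕ) (w : ↥(W₁ ⊔ W₂)), (w : G) ^ n = 1 → powHom ω n w = 1 := fun n w h => by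
    rw [powHom_apply, ← map_pow, show w ^ n = 1 from Subtype.ext h, map_one]
  refine ⟨powHom ω k, powHom ω l, fun w hw => hz k w (hk2 _ hw), fun w hw => hz l w (hl2 _ hw),
    MonoidHom.ext fun w => ?_⟩
  obtain ⟨a, ha, b, hb, e⟩ := (mem_sup_iff hW.2.2.2.1).1 w.2
  rw [MonoidHom.mul_apply, powHom_apply, powHom_apply, ← map_pow, ← map_pow, ← map_mul]
  congr 1
  refine Subtype.ext ?_
  show (w : G) ^ k * (w : G) ^ l = w
  have hab : Commute a b := hW.2.2.2.1 a ha b hb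
  rw [← e, hab.mul_pow, hab.mul_pow, hk1 a ha, hk2 b hb, hl2 a ha, hl1 b hb, mul_one, one_mul]

theorem card_trivialOn (hcyc : IsCyclic ↥(W₁ ⊔ W₂)) (N : Subgroup G) (hN : N ≤ W₁ ⊔ W₂) :
    Nat.card {f : ↥(W₁ ⊔ W₂) →* ℂˣ // ∀ w : ↥(W₁ ⊔ W₂), (w : G) ∈ N → f w = 1} * Nat.card N =
      Nat.card ↥(W₁ ⊔ W₂) := by
  classical
  have := Fintype.ofFinite ↥(W₁ ⊔ W₂)
  have := finite_hom (W₁ ⊔ W₂)
  have := Fintype.ofFinite {f : ↥(W₁ ⊔ W₂) →* ℂˣ // ∀ w : ↥(W₁ ⊔ W₂), (w : G) ∈ N → f w = 1}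
  have key : ((Nat.card {f : ↥(W₁ ⊔ W₂) →* ℂˣ // ∀ w : ↥(W₁ ⊔ W₂), (w : G) ∈ N → f w = 1} *
      Nat.card N : ℕ) : ℂ) = (Nat.card ↥(W₁ ⊔ W₂) : ℂ) := by
    have h1 : ∀ f : {f : ↥(W₁ ⊔ W₂) →* ℂˣ // ∀ w : ↥(W₁ ⊔ W₂), (w : G) ∈ N → f w = 1},
        ∑ w : ↥(W₁ ⊔ W₂), (f.1 w : ℂ) =
          if f = ⟨1, fun _ _ => rfl⟩ then (Nat.card ↥(W₁ ⊔ W₂) : ℂ) else 0 := by
      intro f
      split
      · next h => subst h; simp [Nat.card_eq_fintype_card]
      · next h =>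
        have h2 := classInner_hom (f := f.1) (f' := (1 : ↥(W₁ ⊔ W₂) →* ℂˣ))
        rw [if_neg fun e => h (Subtype.ext e)] at h2
        simp only [classInner, mul_eq_zero, inv_eq_zero, card_ne_zero, false_or] at h2
        rw [← h2]
        exact Finset.sum_congr rfl fun w _ => by simp
    calc _ = ∑ w : ↥(W₁ ⊔ W₂),
          ∑ f : {f : ↥(W₁ ⊔ W₂) →* ℂˣ // ∀ w : ↥(W₁ ⊔ W₂), (w : G) ∈ N → f w = 1}, (f.1 w : ℂ) := by
            simp only [sum_hom hcyc]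
            rw [Finset.sum_ite, Finset.sum_const_zero, add_zero, Finset.sum_const, nsmul_eq_mul,
              ← Fintype.card_subtype, ← Nat.card_eq_fintype_card, Nat.cast_mul, mul_comm]
            congr 2
            exact (Nat.card_congr (Subgroup.subgroupOfEquivOfLe hN).toEquiv).symm.trans
              (Nat.card_congr (Equiv.subtypeEquivRight fun w => Subgroup.mem_subgroupOf))
      _ = _ := by rw [Finset.sum_comm]; simp [h1]
  exact_mod_cast key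

/-- The value of a linear combination at the trivial character and off it. -/
theorem split_sum {K : Type*} [Fintype K] [DecidableEq K] (o : K) (F : K → ℂ) :
    ∑ x, F x = F o + ∑ p : {x // x ≠ o}, F p := by
  rw [← Finset.add_sum_erase _ _ (Finset.mem_univ o)]
  congr 1
  exact (Finset.sum_subtype (Finset.univ.erase o) (by simp) F)

variable (W₁ W₂) in
/-- Non-trivial linear characters trivial on the second factor. -/
abbrev LeftIdx : Type _ := {f : ↥(W₁ ⊔ W₂) →* ℂˣ //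
  (∀ w : ↥(W₁ ⊔ W₂), (w : G) ∈ W₂ → f w = 1) ∧ f ≠ 1}

variable (W₁ W₂) in
/-- Non-trivial linear characters trivial on the first factor. -/
abbrev RightIdx : Type _ := {f : ↥(W₁ ⊔ W₂) →* ℂˣ //
  (∀ w : ↥(W₁ ⊔ W₂), (w : G) ∈ W₁ → f w = 1) ∧ f ≠ 1}

theorem card_idx_left (hW : Cfsg.IsSelfNormalizingCyclic W₁ W₂) :
    Nat.card (LeftIdx W₁ W₂) + 1 = Nat.card W₁ ∧ Nat.card (RightIdx W₁ W₂) + 1 = Nat.card W₂ := by
  classical
  have := finite_hom (W₁ ⊔ W₂)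
  have key : ∀ (N : Subgroup G),
      Nat.card {f : ↥(W₁ ⊔ W₂) →* ℂˣ // (∀ w : ↥(W₁ ⊔ W₂), (w : G) ∈ N → f w = 1) ∧ f ≠ 1} + 1 =
        Nat.card {f : ↥(W₁ ⊔ W₂) →* ℂˣ // ∀ w : ↥(W₁ ⊔ W₂), (w : G) ∈ N → f w = 1} := by
    intro N
    have := Fintype.ofFinite {f : ↥(W₁ ⊔ W₂) →* ℂˣ // ∀ w : ↥(W₁ ⊔ W₂), (w : G) ∈ N → f w = 1}
    rw [Nat.card_congr (Equiv.subtypeSubtypeEquivSubtypeInter
      (fun f : ↥(W₁ ⊔ W₂) →* ℂˣ => ∀ w : ↥(W₁ ⊔ W₂), (w : G) ∈ N → f w = 1) (fun f => f ≠ 1)).symm,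
      Nat.card_congr (Equiv.subtypeEquivRight (p := fun f :
        {f : ↥(W₁ ⊔ W₂) →* ℂˣ // ∀ w : ↥(W₁ ⊔ W₂), (w : G) ∈ N → f w = 1} => f.1 ≠ 1)
        (q := fun f => f ≠ ⟨1, fun _ _ => rfl⟩) fun f => by simp [Subtype.ext_iff]),
      Nat.card_eq_fintype_card, Nat.card_eq_fintype_card, Fintype.card_subtype_compl,
      Fintype.card_subtype_eq]
    have : 0 < Fintype.card {f : ↥(W₁ ⊔ W₂) →* ℂˣ // ∀ w : ↥(W₁ ⊔ W₂), (w : G) ∈ N → f w = 1} :=
      Fintype.card_pos_iff.2 ⟨⟨1, fun _ _ => rfl⟩⟩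
    omega
  have hc := card_sup hW
  have h2 := card_trivialOn hW.2.2.2.2.1 W₂ le_sup_right
  have h1 := card_trivialOn hW.2.2.2.2.1 W₁ le_sup_left
  rw [hc] at h1 h2
  constructor
  · rw [key]; exact Nat.eq_of_mul_eq_mul_right Nat.card_pos h2
  · rw [key]; exact Nat.eq_of_mul_eq_mul_right Nat.card_pos (h1.trans (mul_comm _ _))

/-- The decomposition of the induced functions. -/
theorem exists_units (hW : Cfsg.IsSelfNormalizingCyclic W₁ W₂)
    (hodd : Odd (Nat.card ↥(W₁ ⊔ W₂))) :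
    ∃ P : (LeftIdx W₁ W₂ ⊕ RightIdx W₁ W₂) ⊕ LeftIdx W₁ W₂ × RightIdx W₁ W₂ → IrrCharacter G,
      Function.Injective P ∧ (∀ l, (P l : G → ℂ) ≠ fun _ => 1) ∧
      ∃ S : (LeftIdx W₁ W₂ ⊕ RightIdx W₁ W₂) ⊕ LeftIdx W₁ W₂ × RightIdx W₁ W₂ → ℂ,
        (∀ l, S l = 1 ∨ S l = -1) ∧
        ∀ i j, indFun (W₁ ⊔ W₂) (alpha i.1 j.1) =
          (fun _ => (1 : ℂ)) + (S (.inl (.inl i)) • (P (.inl (.inl i)) : G → ℂ) +
            S (.inl (.inr j)) • (P (.inl (.inr j)) : G → ℂ) +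
            S (.inr (i, j)) • (P (.inr (i, j)) : G → ℂ)) := by
  classical
  have := finite_hom (W₁ ⊔ W₂)
  have := Fintype.ofFinite (LeftIdx W₁ W₂)
  have := Fintype.ofFinite (RightIdx W₁ W₂)
  have := Fintype.ofFinite ↥(W₁ ⊔ W₂)
  have hc := hW.2.2.2.1
  let o : IrrCharacter G := ⟨fun _ => 1, isIrrCharacter_one⟩
  have hint : ∀ (i : LeftIdx W₁ W₂) (j : RightIdx W₁ W₂) (χ : IrrCharacter G), ∃ z : ℤ,
      classInner (indFun (W₁ ⊔ W₂) (alpha i.1 j.1)) (χ : G → ℂ) = z := by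
    intro i j χ
    rw [classInner_indFun_left _ _ (isClassFunction_of_isIrr χ.2)]
    have hr := isCharacter_res (W₁ ⊔ W₂) (IsIrr.isCharacter χ.2)
    obtain ⟨a, ha⟩ := classInner_isCharacter_eq_natCast
      (isCharacter_one (G := ↥(W₁ ⊔ W₂))) hr
    obtain ⟨b, hb⟩ := classInner_isCharacter_eq_natCast (isCharacter_hom i.1) hr
    obtain ⟨c, hc'⟩ := classInner_isCharacter_eq_natCast (isCharacter_hom j.1) hr
    obtain ⟨d, hd⟩ := classInner_isCharacter_eq_natCast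
      (isCharacter_mul (isCharacter_hom i.1) (isCharacter_hom j.1)) hr
    refine ⟨(a : ℤ) - b - c + d, ?_⟩
    have e : alpha i.1 j.1 = (fun _ => (1 : ℂ)) - (fun w => (i.1 w : ℂ)) - (fun w => (j.1 w : ℂ)) +
        (fun w => (i.1 w : ℂ)) * fun w => (j.1 w : ℂ) := by
      funext w; simp [alpha]
    rw [e, classInner_add_left, classInner_sub_left, classInner_sub_left, ha, hb, hc', hd]
    push_cast
    ring
  choose z hz using hint
  have hcl : ∀ (i : LeftIdx W₁ W₂) (j : RightIdx W₁ W₂),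
      IsClassFunction G (indFun (W₁ ⊔ W₂) (alpha i.1 j.1)) := fun i j => isClassFunction_indFun _ _
  have hzero : ∀ (i : LeftIdx W₁ W₂) (j : RightIdx W₁ W₂) (w : ↥(W₁ ⊔ W₂)),
      (w : G) ∈ W₁ ∨ (w : G) ∈ W₂ → alpha i.1 j.1 w = 0 := fun i j w hw =>
    alpha_eq_zero i.2.1 j.2.1 hw
  have hz0 : ∀ (i : LeftIdx W₁ W₂) (j : RightIdx W₁ W₂), z i j o = 1 := by
    intro i j
    have h1 := hz i j o
    rw [classInner_indFun_left _ _ (isClassFunction_of_isIrr o.2)] at h1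
    have h2 : (1 : ℂ) = z i j o :=
      (classInner_alpha_one hc i.2.1 j.2.1 i.2.2 j.2.2).symm.trans h1
    exact_mod_cast h2.symm
  let B : LeftIdx W₁ W₂ → RightIdx W₁ W₂ → {χ : IrrCharacter G // χ ≠ o} → ℤ :=
    fun i j χ => z i j χ.1
  choose d hd0 hd using fun χ : IrrCharacter G => IsIrr.degree χ.2
  have hgrid : Grid.IsGrid B := by
    refine ⟨fun i j k l => ?_, fun χ => (d χ.1 : ℤ), fun χ => ?_, fun i j k l => ?_⟩
    · have h1 := classInner_indFun hW (hzero i j) (hzero k l)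
      rw [classInner_eq_sum (hcl i j), classInner_alpha_alpha hc i.2.1 j.2.1 k.2.1 l.2.1 i.2.2 j.2.2
        k.2.2 l.2.2, Finset.sum_congr rfl fun χ _ => by
          rw [← classInner_conj_symm (indFun (W₁ ⊔ W₂) (alpha k.1 l.1)) (χ : G → ℂ), hz, hz,
            map_intCast],
        split_sum o, hz0, hz0] at h1
      simp only [Subtype.coe_inj] at h1
      have h2 : ((1 + Grid.dot (B i j) (B k l) : ℤ) : ℂ) = ((1 + ((if i = k then 1 else 0) +
          (if j = l then 1 else 0) + (if i = k then 1 else 0) * (if j = l then 1 else 0)) : ℤ) : ℂ) := by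
        push_cast [Grid.dot, B]
        simp only [Int.cast_one, one_mul] at h1
        linear_combination h1
      have h3 : 1 + Grid.dot (B i j) (B k l) = _ := Int.cast_injective h2
      omega
    · show (d χ.1 : ℤ) ≠ 0
      exact_mod_cast (hd0 χ.1).ne'
    · have key : ∀ i j, ∑ χ : {χ : IrrCharacter G // χ ≠ o}, (d χ.1 : ℤ) * B i j χ = -1 := by
        intro i j
        have h1 := congrFun (classFun_expansion (hcl i j)) 1
        rw [indFun_apply_one, show alpha i.1 j.1 1 = 0 from hzero i j 1 (Or.inl W₁.one_mem),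
          mul_zero, Finset.sum_apply] at h1
        simp only [Pi.smul_apply, smul_eq_mul, hz, hd] at h1
        rw [split_sum o, hz0] at h1
        have h0 : d o = 1 := by
          have h' : (d o : ℂ) = 1 := by rw [← hd o]
          exact_mod_cast h'
        have h2 : ((∑ χ : {χ : IrrCharacter G // χ ≠ o}, (d χ.1 : ℤ) * B i j χ : ℤ) : ℂ) =
            ((-1 : ℤ) : ℂ) := by
          rw [h0] at h1
          push_cast [B] at h1 ⊢
          rw [Finset.sum_congr rfl fun χ _ => mul_comm ((d χ.1 : ℂ)) _]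
          linear_combination -h1
        exact Int.cast_injective h2
      rw [key, key]
  obtain ⟨hcI, hcJ⟩ := card_idx_left hW
  rw [Nat.card_eq_fintype_card (α := LeftIdx W₁ W₂)] at hcI
  rw [Nat.card_eq_fintype_card (α := RightIdx W₁ W₂)] at hcJ
  rw [card_sup hW, Nat.odd_mul] at hodd
  obtain ⟨⟨a, ha⟩, b, hb⟩ := hodd
  have hW1 : Nat.card W₁ ≠ 1 := fun h => hW.1 (Subgroup.card_eq_one.1 h)
  have hW2 : Nat.card W₂ ≠ 1 := fun h => hW.2.1 (Subgroup.card_eq_one.1 h)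
  have hne : Nat.card W₁ ≠ Nat.card W₂ := fun h => by
    have := coprime_card hW
    rw [h, Nat.coprime_self] at this
    exact hW2 this
  obtain ⟨P, hP, S, hS, hB⟩ : ∃ P : (LeftIdx W₁ W₂ ⊕ RightIdx W₁ W₂) ⊕
      LeftIdx W₁ W₂ × RightIdx W₁ W₂ → {χ : IrrCharacter G // χ ≠ o}, Function.Injective P ∧
      ∃ S : (LeftIdx W₁ W₂ ⊕ RightIdx W₁ W₂) ⊕ LeftIdx W₁ W₂ × RightIdx W₁ W₂ → ℤ,
        (∀ l, S l = 1 ∨ S l = -1) ∧ ∀ i j p, B i j p =
          (if P (.inl (.inl i)) = p then S (.inl (.inl i)) else 0) +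
          (if P (.inl (.inr j)) = p then S (.inl (.inr j)) else 0) +
          (if P (.inr (i, j)) = p then S (.inr (i, j)) else 0) := by
    by_cases h4 : 4 ≤ Fintype.card (RightIdx W₁ W₂)
    · obtain ⟨P, hP, S, hS, hB⟩ := hgrid.decomp (by omega) (by omega) h4
      exact ⟨P, hP, S, hS, fun i j p => hB i j p⟩
    · obtain ⟨P, hP, S, hS, hB⟩ := hgrid.swap.decomp (by omega) (by omega) (by omega)
      refine ⟨P ∘ Sum.map Sum.swap Prod.swap,
        hP.comp (Sum.map_injective.2 ⟨Sum.swap_leftInverse.injective, Prod.swap_injective⟩),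
        S ∘ Sum.map Sum.swap Prod.swap, fun l => hS _, fun i j p => ?_⟩
      rw [show B i j p = _ from hB j i p]
      simp only [Function.comp_apply, Sum.map_inl, Sum.map_inr, Sum.swap_inl, Sum.swap_inr,
        Prod.swap_prod_mk]
      congr 1
      rw [add_comm]
      congr 1 <;> congr!
  refine ⟨fun l => (P l).1, Subtype.val_injective.comp hP,
    fun l h => (P l).2 (Subtype.ext h), fun l => (S l : ℂ),
    fun l => by rcases hS l with h | h <;> simp [h], fun i j => ?_⟩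
  funext g
  have h1 := congrFun (classFun_expansion (hcl i j)) g
  simp only [Finset.sum_apply, Pi.smul_apply, smul_eq_mul, hz] at h1
  rw [split_sum o, hz0] at h1
  have h2 : ∀ p : {χ : IrrCharacter G // χ ≠ o}, (z i j p.1 : ℂ) =
      (if P (.inl (.inl i)) = p then (S (.inl (.inl i)) : ℂ) else 0) +
        (if P (.inl (.inr j)) = p then (S (.inl (.inr j)) : ℂ) else 0) +
        (if P (.inr (i, j)) = p then (S (.inr (i, j)) : ℂ) else 0) := fun p => by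
    have := congrArg (Int.cast : ℤ → ℂ) (hB i j p)
    push_cast at this
    exact this
  simp only [h2, add_mul, ite_mul, zero_mul, Finset.sum_add_distrib, Finset.sum_ite_eq,
    Finset.mem_univ, if_true, Int.cast_one, one_mul] at h1
  simp only [Pi.add_apply, Pi.smul_apply, smul_eq_mul]
  exact h1

/-- The linear character with a given label. -/
def labelHom : Option ((LeftIdx W₁ W₂ ⊕ RightIdx W₁ W₂) ⊕ LeftIdx W₁ W₂ × RightIdx W₁ W₂) →
    (↥(W₁ ⊔ W₂) →* ℂˣ)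
  | none => 1
  | some (.inl (.inl i)) => i.1
  | some (.inl (.inr j)) => j.1
  | some (.inr (i, j)) => i.1 * j.1

theorem labelHom_bijective (hW : Cfsg.IsSelfNormalizingCyclic W₁ W₂) :
    Function.Bijective (labelHom (W₁ := W₁) (W₂ := W₂)) := by
  classical
  have hc := hW.2.2.2.1
  have one₂ : ∀ w : ↥(W₁ ⊔ W₂), (w : G) ∈ W₂ → (1 : ↥(W₁ ⊔ W₂) →* ℂˣ) w = 1 := fun _ _ => rfl
  have one₁ : ∀ w : ↥(W₁ ⊔ W₂), (w : G) ∈ W₁ → (1 : ↥(W₁ ⊔ W₂) →* ℂˣ) w = 1 := fun _ _ => rfl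
  have hsplit : ∀ x, ∃ φ ψ : ↥(W₁ ⊔ W₂) →* ℂˣ, (∀ w : ↥(W₁ ⊔ W₂), (w : G) ∈ W₂ → φ w = 1) ∧
      (∀ w : ↥(W₁ ⊔ W₂), (w : G) ∈ W₁ → ψ w = 1) ∧ φ * ψ = labelHom x ∧
      x = if h₁ : (∀ w : ↥(W₁ ⊔ W₂), (w : G) ∈ W₂ → φ w = 1) ∧ φ ≠ 1 then
        (if h₂ : (∀ w : ↥(W₁ ⊔ W₂), (w : G) ∈ W₁ → ψ w = 1) ∧ ψ ≠ 1 then
          some (.inr (⟨φ, h₁⟩, ⟨ψ, h₂⟩)) else some (.inl (.inl ⟨φ, h₁⟩)))
        else (if h₂ : (∀ w : ↥(W₁ ⊔ W₂), (w : G) ∈ W₁ → ψ w = 1) ∧ ψ ≠ 1 then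
          some (.inl (.inr ⟨ψ, h₂⟩)) else none) := by
    rintro (- | ((i | j) | ⟨i, j⟩))
    · exact ⟨1, 1, one₂, one₁, MonoidHom.ext fun w => by simp [labelHom], by simp⟩
    · exact ⟨i.1, 1, i.2.1, one₁, MonoidHom.ext fun w => by simp [labelHom],
        by rw [dif_pos i.2, dif_neg (by simp)]⟩
    · exact ⟨1, j.1, one₂, j.2.1, MonoidHom.ext fun w => by simp [labelHom],
        by rw [dif_neg (by simp), dif_pos j.2]⟩
    · exact ⟨i.1, j.1, i.2.1, j.2.1, rfl, by rw [dif_pos i.2, dif_pos j.2]⟩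
  refine ⟨fun x y hxy => ?_, fun ω => ?_⟩
  · obtain ⟨φ, ψ, hφ, hψ, hx, ex⟩ := hsplit x
    obtain ⟨φ', ψ', hφ', hψ', hy, ey⟩ := hsplit y
    obtain ⟨rfl, rfl⟩ :=
      (mul_eq_mul_iff hc hφ hψ hφ' hψ').1 ((hx.trans hxy).trans hy.symm)
    rw [ex, ey]
  · obtain ⟨φ, ψ, hφ, hψ, rfl⟩ := exists_mul_eq hW ω
    by_cases h1 : φ = 1 <;> by_cases h2 : ψ = 1
    · exact ⟨none, MonoidHom.ext fun w => by simp [labelHom, h1, h2]⟩
    · exact ⟨some (.inl (.inr ⟨ψ, hψ, h2⟩)), MonoidHom.ext fun w => by simp [labelHom, h1]⟩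
    · exact ⟨some (.inl (.inl ⟨φ, hφ, h1⟩)), MonoidHom.ext fun w => by simp [labelHom, h2]⟩
    · exact ⟨some (.inr (⟨φ, hφ, h1⟩, ⟨ψ, hψ, h2⟩)), rfl⟩

/-- **The family of characters of a self-normalising cyclic pair.** -/
theorem exists_family (hW : Cfsg.IsSelfNormalizingCyclic W₁ W₂)
    (hodd : Odd (Nat.card ↥(W₁ ⊔ W₂))) :
    ∃ χ : (↥(W₁ ⊔ W₂) →* ℂˣ) → (G → ℂ), Cfsg.IsCyclicTIFamily W₁ W₂ χ := by
  classical
  have := Fintype.ofFinite ↥(W₁ ⊔ W₂)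
  obtain ⟨P, hP, hP1, S, hS, hind⟩ := exists_units hW hodd
  let irr : Option ((LeftIdx W₁ W₂ ⊕ RightIdx W₁ W₂) ⊕ LeftIdx W₁ W₂ × RightIdx W₁ W₂) →
      IrrCharacter G := fun x => x.elim ⟨fun _ => 1, isIrrCharacter_one⟩ P
  let sgn : Option ((LeftIdx W₁ W₂ ⊕ RightIdx W₁ W₂) ⊕ LeftIdx W₁ W₂ × RightIdx W₁ W₂) → ℂ :=
    fun x => x.elim 1 fun l => if l.isLeft then -S l else S l
  have hsgn : ∀ x, sgn x = 1 ∨ sgn x = -1 := by
    rintro (- | l)
    · exact Or.inl rfl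
    · show (if l.isLeft then -S l else S l) = 1 ∨ (if l.isLeft then -S l else S l) = -1
      rcases hS l with h | h <;> split_ifs <;> simp [h]
  have hinj : Function.Injective irr := by
    rintro (- | l) (- | l') h
    · rfl
    · exact absurd (congrArg Subtype.val h).symm (hP1 l')
    · exact absurd (congrArg Subtype.val h) (hP1 l)
    · exact congrArg some (hP h)
  let e := (Equiv.ofBijective _ (labelHom_bijective hW)).symm
  have he : ∀ x, e (labelHom x) = x := fun x =>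
    (Equiv.ofBijective _ (labelHom_bijective hW)).symm_apply_apply x
  let χ : (↥(W₁ ⊔ W₂) →* ℂˣ) → (G → ℂ) := fun ω => sgn (e ω) • (irr (e ω) : G → ℂ)
  have hirr : ∀ ω, IsIrrCharacter G (χ ω) ∨ IsIrrCharacter G (-χ ω) := fun ω => by
    rcases hsgn (e ω) with h | h
    · left; simp only [χ, h, one_smul]; exact (irr (e ω)).2
    · right; simp only [χ, h, neg_smul, one_smul, neg_neg]; exact (irr (e ω)).2
  have horth : ∀ ω ω', classInner (χ ω) (χ ω') = if ω = ω' then 1 else 0 := fun ω ω' => by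
    simp only [χ, classInner_smul_left, classInner_smul_right, classInner_irrChar, hinj.eq_iff,
      e.injective.eq_iff]
    split
    · next h => subst h; rcases hsgn (e ω) with h | h <;> simp [h]
    · simp
  have hone : χ 1 = fun _ => 1 := by
    have : e 1 = none := he none
    simp only [χ, this]
    funext g
    simp [irr, sgn]
  have hindeq : ∀ φ ψ : ↥(W₁ ⊔ W₂) →* ℂˣ, φ ≠ 1 → ψ ≠ 1 →
      (∀ w : ↥(W₁ ⊔ W₂), (w : G) ∈ W₂ → φ w = 1) → (∀ w : ↥(W₁ ⊔ W₂), (w : G) ∈ W₁ → ψ w = 1) →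
      indFun (W₁ ⊔ W₂) (alpha φ ψ) = χ 1 - χ φ - χ ψ + χ (φ * ψ) := by
    intro φ ψ h1 h2 hφ hψ
    have e1 : e φ = some (.inl (.inl ⟨φ, hφ, h1⟩)) := he (some (.inl (.inl ⟨φ, hφ, h1⟩)))
    have e2 : e ψ = some (.inl (.inr ⟨ψ, hψ, h2⟩)) := he (some (.inl (.inr ⟨ψ, hψ, h2⟩)))
    have e3 : e (φ * ψ) = some (.inr (⟨φ, hφ, h1⟩, ⟨ψ, hψ, h2⟩)) :=
      he (some (.inr (⟨φ, hφ, h1⟩, ⟨ψ, hψ, h2⟩)))
    rw [hind ⟨φ, hφ, h1⟩ ⟨ψ, hψ, h2⟩, hone]
    simp only [χ, e1, e2, e3]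
    funext g
    simp [irr, sgn]
    ring
  refine ⟨χ, hirr, fun ω ω' => by rw [horth]; split_ifs <;> rfl, hone, fun ω w hw₁ hw₂ => ?_, fun φ ψ h1 h2 hφ hψ => ?_⟩
  · have hcf : IsClassFunction G (χ ω) := fun g k => by
      simp only [χ, Pi.smul_apply]
      rw [isClassFunction_of_isIrr (irr (e ω)).2 g k]
    refine sub_eq_zero.1 (vanish_of_orth hW
      (θ := (fun v : ↥(W₁ ⊔ W₂) => χ ω v) - fun v => (ω v : ℂ)) (fun φ ψ hφ hψ h1 h2 => ?_) hw₁ hw₂)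
    have e' : alpha φ ψ = (fun v => ((1 : ↥(W₁ ⊔ W₂) →* ℂˣ) v : ℂ)) - (fun v => (φ v : ℂ)) -
        (fun v => (ψ v : ℂ)) + fun v => ((φ * ψ) v : ℂ) := by
      funext v; simp [alpha]
    rw [classInner_sub_left, ← classInner_indFun_right (W₁ ⊔ W₂) (alpha φ ψ) hcf,
      hindeq φ ψ h1 h2 hφ hψ, e']
    simp only [classInner_add_right, classInner_sub_right, horth, classInner_hom, sub_self]
  · have h3 := hindeq φ ψ h1 h2 hφ hψ
    rw [hone] at h3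
    exact h3

end Cfsg.Agent.CyclicTI
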