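import Mathlib

/-!
# Grids of integer vectors of norm three

The combinatorial part of the construction of the characters attached to a cyclic trivial
intersection set: the `(m × n)` grid of norm three vectors is `x i + y j + z i j`.
-/

namespace Cfsg.Agent.CyclicTI.Grid

/-- The candidates for a vector meeting the four lines `012, 034, 056, 135` with products
`1,0,0,0`, and so on. -/
def cand : Fin 4 → List (Fin 7 → ℤ) :=
  ![[![0, 0, 1, 0, 0, 0, 0], ![0, 1, 0, -1, 1, 0, 0], ![0, 1, 0, 0, 0, -1, 1],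
      ![1, 0, 0, 0, -1, 0, -1]],
    [![0, -1, 1, 1, 0, 0, 0], ![0, 0, 0, 0, 1, 0, 0], ![0, 0, 0, 1, 0, -1, 1],
      ![1, 0, -1, 0, 0, 0, -1]],
    [![0, -1, 1, 0, 0, 1, 0], ![0, 0, 0, -1, 1, 1, 0], ![0, 0, 0, 0, 0, 0, 1],
      ![1, 0, -1, 0, -1, 0, 0]],
    [![0, 0, 0, 0, 0, 1, -1], ![0, 0, 0, 1, -1, 0, 0], ![0, 1, -1, 0, 0, 0, 0]]]

/-- The weight of a vector on the seven points. -/
def weight (u : Fin 7 → ℤ) : ℤ := ∑ s, |u s|

/-- Two restricted vectors may have product one. -/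
def Compat (u w : Fin 7 → ℤ) : Prop :=
  (∀ s, 0 ≤ u s * w s) ∧ ∑ s, u s * w s ≤ 1 ∧
    (∑ s, u s * w s = 0 → weight u < 3 ∧ weight w < 3)

instance : DecidableRel Compat := fun u w => by unfold Compat; infer_instance

def val3 (i : Fin 3) : ℤ := (i : ℤ) - 1

theorem cand_table : ∀ a b c d e f g : Fin 3, ∀ r : Fin 4,
    |val3 a| + |val3 b| + |val3 c| + |val3 d| + |val3 e| + |val3 f| + |val3 g| ≤ 3 →
    val3 a + val3 b + val3 c = (if r = 0 then 1 else 0) →
    val3 a + val3 d + val3 e = (if r = 1 then 1 else 0) →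
    val3 a + val3 f + val3 g = (if r = 2 then 1 else 0) →
    val3 b + val3 d + val3 f = (if r = 3 then 1 else 0) →
    ![val3 a, val3 b, val3 c, val3 d, val3 e, val3 f, val3 g] ∈ cand r := by
  decide +kernel

theorem cand_clash : ∀ u ∈ cand 0, ∀ v ∈ cand 1, ∀ w ∈ cand 2, ∀ x ∈ cand 3,
    ¬ (Compat u v ∧ Compat u w ∧ Compat u x ∧ Compat v w ∧ Compat v x ∧ Compat w x) := by
  decide +kernel

variable {ι : Type*} [Fintype ι]

/-- The product. -/
def dot (v w : ι → ℤ) : ℤ := ∑ p, v p * w p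

theorem dot_comm (v w : ι → ℤ) : dot v w = dot w v :=
  Finset.sum_congr rfl fun p _ => mul_comm _ _

theorem entry_le {v : ι → ℤ} (h : dot v v = 3) (p : ι) : |v p| ≤ 1 := by
  have h1 : v p * v p ≤ 3 := h ▸ Finset.single_le_sum (f := fun q => v q * v q)
    (fun q _ => mul_self_nonneg _) (Finset.mem_univ p)
  by_contra hc
  nlinarith [abs_mul_abs_self (v p), abs_nonneg (v p)]

theorem entry_cases {v : ι → ℤ} (h : dot v v = 3) (p : ι) : v p = -1 ∨ v p = 0 ∨ v p = 1 := by
  have := abs_le.1 (entry_le h p); omega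

theorem card_supp {v : ι → ℤ} (h : dot v v = 3) :
    (Finset.univ.filter fun p => v p ≠ 0).card = 3 := by
  have h1 : ∀ p, v p * v p = if v p ≠ 0 then 1 else 0 := fun p => by
    rcases entry_cases h p with e | e | e <;> simp [e]
  rw [dot, Finset.sum_congr rfl fun p _ => h1 p, Finset.sum_boole] at h
  exact_mod_cast h

/-- Products are nonnegative when the degrees agree. -/
theorem nonneg_of_deg {v w : ι → ℤ} (d : ι → ℤ) (hd : ∀ p, d p ≠ 0) (hv : dot v v = 3)
    (hw : dot w w = 3) (h : dot v w = 1) (he : ∑ p, d p * v p = ∑ p, d p * w p) (p : ι) :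
    0 ≤ v p * w p := by
  classical
  by_contra hc
  have hsq : ∑ q, (v q - w q) * (v q - w q) = 4 := by
    have : ∀ q, (v q - w q) * (v q - w q) = v q * v q + w q * w q - 2 * (v q * w q) :=
      fun q => by ring
    rw [Finset.sum_congr rfl fun q _ => this q, Finset.sum_sub_distrib, Finset.sum_add_distrib,
      ← Finset.mul_sum]
    simp only [dot] at hv hw h
    omega
  have hp : (v p - w p) * (v p - w p) = 4 := by
    rcases entry_cases hv p with e | e | e <;> rcases entry_cases hw p with e' | e' | e' <;>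
      simp [e, e'] at hc ⊢
  rw [← Finset.add_sum_erase _ _ (Finset.mem_univ p), hp] at hsq
  have h0 := (Finset.sum_eq_zero_iff_of_nonneg fun q _ => mul_self_nonneg _).1
    (show ∑ q ∈ Finset.univ.erase p, (v q - w q) * (v q - w q) = 0 by omega)
  have h1 : ∑ q, d q * (v q - w q) = 0 := by
    simp only [mul_sub, Finset.sum_sub_distrib, he, sub_self]
  rw [Finset.sum_eq_single p (fun q _ hq => by
    rw [mul_self_eq_zero.1 (h0 q (Finset.mem_erase.2 ⟨hq, Finset.mem_univ q⟩)), mul_zero])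
    (by simp), mul_eq_zero] at h1
  rcases h1 with h1 | h1
  · exact hd p h1
  · rw [h1] at hp; norm_num at hp

/-- Two vectors of norm three with product one and nonnegative products share one point. -/
theorem exists_common {v w : ι → ℤ} (hv : dot v v = 3) (hw : dot w w = 3) (h : dot v w = 1)
    (hpos : ∀ p, 0 ≤ v p * w p) :
    ∃ p, v p ≠ 0 ∧ v p = w p ∧ ∀ q, v q ≠ 0 → w q ≠ 0 → q = p := by
  classical
  obtain ⟨p, -, hp⟩ := Finset.exists_ne_zero_of_sum_ne_zero (h.symm ▸ one_ne_zero : dot v w ≠ 0)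
  have hle : ∀ q, v q * w q ≠ 0 → v q * w q = 1 := fun q hq => by
    have := hpos q
    rcases entry_cases hv q with e | e | e <;> rcases entry_cases hw q with e' | e' | e' <;>
      simp [e, e'] at hq this ⊢
  refine ⟨p, left_ne_zero_of_mul hp, ?_, fun q hq hq' => ?_⟩
  · have := hle p hp
    rcases entry_cases hv p with e | e | e <;> rcases entry_cases hw p with e' | e' | e' <;>
      simp [e, e'] at this ⊢
  · by_contra hne
    have h2 : v q * w q + v p * w p ≤ dot v w := by
      rw [← Finset.sum_pair (f := fun r => v r * w r) hne]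
      exact Finset.sum_le_sum_of_subset_of_nonneg (Finset.subset_univ _) fun r _ _ => hpos r
    rw [hle p hp, hle q (mul_ne_zero hq hq'), h] at h2
    omega

/-- Pairwise hypotheses on a line of the grid. -/
structure IsLine {J : Type*} (L : J → ι → ℤ) : Prop where
  norm : ∀ j, dot (L j) (L j) = 3
  inner : ∀ j l, j ≠ l → dot (L j) (L l) = 1
  pos : ∀ j l, ∀ p, 0 ≤ L j p * L l p

variable {J : Type*} {L V : J → ι → ℤ}

theorem IsLine.same (hL : IsLine L) {j l : J} {p : ι} (hj : L j p ≠ 0) (hl : L l p ≠ 0) :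
    L j p = L l p := by
  have := hL.pos j l p
  rcases entry_cases (hL.norm j) p with e | e | e <;> rcases entry_cases (hL.norm l) p with
    e' | e' | e' <;> simp [e, e'] at hj hl this ⊢

theorem IsLine.meet (hL : IsLine L) {j l : J} (h : j ≠ l) :
    ∃ p, L j p ≠ 0 ∧ L l p ≠ 0 ∧ ∀ q, L j q ≠ 0 → L l q ≠ 0 → q = p := by
  obtain ⟨p, hp, he, hu⟩ := exists_common (hL.norm j) (hL.norm l) (hL.inner j l h) (hL.pos j l)
  exact ⟨p, hp, he ▸ hp, hu⟩

/-- Four lines cannot be in general position next to a second line of the grid. -/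
theorem exists_triple (hL : IsLine L) [DecidableEq J]
    (hVL : ∀ j l, dot (V j) (L l) = if j = l then 1 else 0) (e : Fin 4 → J)
    (he : Function.Injective e) :
    ∃ r s t p, r ≠ s ∧ r ≠ t ∧ s ≠ t ∧ L (e r) p ≠ 0 ∧ L (e s) p ≠ 0 ∧ L (e t) p ≠ 0 := by
  classical
  by_contra hno
  push Not at hno
  have hcover : ∀ r p, L (e r) p ≠ 0 → ∃ s, s ≠ r ∧ L (e s) p ≠ 0 := by
    intro r p hp
    choose f hf1 hf2 _ using fun s : {s : Fin 4 // s ≠ r} => hL.meet (he.ne s.2)
    have hinj : Function.Injective f := fun a b hab => by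
      by_contra hne
      exact hf2 a (hno a.1 b.1 r (f a) (fun h => hne (Subtype.ext h)) a.2 b.2 (hf1 a)
        (hab ▸ hf1 b))
    have hsub : Finset.univ.image f = Finset.univ.filter fun q => L (e r) q ≠ 0 := by
      refine Finset.eq_of_subset_of_card_le (fun q hq => ?_) ?_
      · obtain ⟨a, -, rfl⟩ := Finset.mem_image.1 hq
        exact Finset.mem_filter.2 ⟨Finset.mem_univ _, hf2 a⟩
      · rw [card_supp (hL.norm _), Finset.card_image_of_injective _ hinj, Finset.card_univ,
          Fintype.card_subtype_compl, Fintype.card_fin, Fintype.card_subtype_eq]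
    have hm : p ∈ Finset.univ.image f := hsub ▸ Finset.mem_filter.2 ⟨Finset.mem_univ _, hp⟩
    obtain ⟨a, -, rfl⟩ := Finset.mem_image.1 hm
    exact ⟨a.1, a.2, hf1 a⟩
  have heven : ∀ p, (2 : ℤ) ∣ ∑ r, L (e r) p := by
    intro p
    by_cases h0 : ∀ r, L (e r) p = 0
    · simp [h0]
    · push Not at h0
      obtain ⟨r, hr⟩ := h0
      obtain ⟨s, hsr, hs⟩ := hcover r p hr
      refine ⟨L (e r) p, ?_⟩
      rw [← Finset.sum_subset (Finset.subset_univ {r, s}) (fun t _ ht => ?_),
        Finset.sum_pair hsr.symm, hL.same hs hr]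
      · ring
      · simp only [Finset.mem_insert, Finset.mem_singleton, not_or] at ht
        by_contra hne
        exact hne (hno r s t p hsr.symm (Ne.symm ht.1) (Ne.symm ht.2) hr hs)
  have h1 : (2 : ℤ) ∣ ∑ p, V (e 0) p * ∑ r, L (e r) p :=
    Finset.dvd_sum fun p _ => (heven p).mul_left _
  simp only [Finset.mul_sum] at h1
  rw [Finset.sum_comm] at h1
  change (2 : ℤ) ∣ ∑ r, dot (V (e 0)) (L (e r)) at h1
  simp only [hVL] at h1
  simp [he.eq_iff] at h1

theorem weight_restrict_le {v : ι → ℤ} (hv : dot v v = 3) (p : Fin 7 → ι)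
    (hp : Function.Injective p) (σ : Fin 7 → ℤ) (hσ : ∀ s, σ s * σ s = 1) :
    weight (fun s => σ s * v (p s)) ≤ 3 := by
  classical
  calc weight (fun s => σ s * v (p s)) = ∑ s, v (p s) * v (p s) := Finset.sum_congr rfl fun s _ => by
        rcases entry_cases hv (p s) with e | e | e <;>
          rcases mul_self_eq_one_iff.1 (hσ s) with e' | e' <;> simp [e, e']
    _ = ∑ q ∈ Finset.univ.image p, v q * v q :=
        (Finset.sum_image (f := fun q => v q * v q) fun a _ b _ h => hp h).symm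
    _ ≤ dot v v := Finset.sum_le_sum_of_subset_of_nonneg (Finset.subset_univ _)
        fun q _ _ => mul_self_nonneg _
    _ = 3 := hv

theorem compat_restrict {v w : ι → ℤ} (hv : dot v v = 3) (hw : dot w w = 3) (h : dot v w = 1)
    (hpos : ∀ q, 0 ≤ v q * w q) (p : Fin 7 → ι) (hp : Function.Injective p) (σ : Fin 7 → ℤ)
    (hσ : ∀ s, σ s * σ s = 1) :
    Compat (fun s => σ s * v (p s)) (fun s => σ s * w (p s)) := by
  classical
  have e : ∀ s, σ s * v (p s) * (σ s * w (p s)) = v (p s) * w (p s) := fun s => by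
    linear_combination (v (p s) * w (p s)) * hσ s
  have hle : ∑ q ∈ Finset.univ.image p, v q * w q ≤ 1 := h ▸
    Finset.sum_le_sum_of_subset_of_nonneg (Finset.subset_univ _) fun q _ _ => hpos q
  have him : ∑ q ∈ Finset.univ.image p, v q * w q = ∑ s, v (p s) * w (p s) :=
    Finset.sum_image fun a _ b _ h => hp h
  refine ⟨fun s => by rw [e]; exact hpos _, by simp only [e]; rw [← him]; exact hle, fun h0 => ?_⟩
  simp only [e] at h0
  obtain ⟨q, hq, hvw, -⟩ := exists_common hv hw h hpos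
  have hqn : q ∉ Finset.univ.image p := fun hm => by
    have := (Finset.sum_eq_zero_iff_of_nonneg fun q _ => hpos q).1 (him.trans h0) q hm
    rw [← hvw, mul_self_eq_zero] at this
    exact hq this
  have key : ∀ u : ι → ℤ, dot u u = 3 → u q ≠ 0 → weight (fun s => σ s * u (p s)) < 3 := by
    intro u hu huq
    have h1 : weight (fun s => σ s * u (p s)) = ∑ r ∈ Finset.univ.image p, u r * u r := by
      rw [Finset.sum_image fun a _ b _ h => hp h]
      refine Finset.sum_congr rfl fun s _ => ?_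
      rcases entry_cases hu (p s) with e | e | e <;>
        rcases mul_self_eq_one_iff.1 (hσ s) with e' | e' <;> simp [e, e']
    have h2 : ∑ r ∈ Finset.univ.image p, u r * u r + u q * u q ≤ dot u u := by
      rw [add_comm, ← Finset.sum_insert (f := fun r => u r * u r) hqn]
      exact Finset.sum_le_sum_of_subset_of_nonneg (Finset.subset_univ _)
        fun r _ _ => mul_self_nonneg _
    have h3 := mul_self_pos.2 huq
    omega
  exact ⟨key v hv hq, key w hw (hvw ▸ hq)⟩

theorem supp_eq_three {v : ι → ℤ} (hv : dot v v = 3) {a b : ι} (hab : a ≠ b) (ha : v a ≠ 0)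
    (hb : v b ≠ 0) : ∃ c, c ≠ a ∧ c ≠ b ∧ v c ≠ 0 ∧ ∀ q, v q ≠ 0 → q = a ∨ q = b ∨ q = c := by
  classical
  set S := Finset.univ.filter fun q => v q ≠ 0
  have hS : ∀ q, q ∈ S ↔ v q ≠ 0 := fun q => by simp [S]
  have hc : ((S.erase a).erase b).card = 1 := by
    rw [Finset.card_erase_of_mem (Finset.mem_erase.2 ⟨hab.symm, (hS b).2 hb⟩),
      Finset.card_erase_of_mem ((hS a).2 ha), card_supp hv]
  obtain ⟨c, hc⟩ := Finset.card_eq_one.1 hc
  have hcm : c ∈ (S.erase a).erase b := hc ▸ Finset.mem_singleton_self c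
  simp only [Finset.mem_erase, hS] at hcm
  refine ⟨c, hcm.2.1, hcm.1, hcm.2.2, fun q hq => ?_⟩
  by_contra hne
  push Not at hne
  have : q ∈ (S.erase a).erase b := by simp [hS, hq, hne.1, hne.2.1]
  rw [hc, Finset.mem_singleton] at this
  exact hne.2.2 this

theorem dot_of_supp {v w : ι → ℤ} {a b c : ι} (hab : a ≠ b) (hac : a ≠ c) (hbc : b ≠ c)
    (h : ∀ q, w q ≠ 0 → q = a ∨ q = b ∨ q = c) :
    dot v w = v a * w a + v b * w b + v c * w c := by
  classical
  rw [dot, ← Finset.sum_subset (Finset.subset_univ {a, b, c}) fun q _ hq => ?_,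
    Finset.sum_insert (by simp [hab, hac]), Finset.sum_pair hbc, add_assoc]
  by_contra hne
  simp only [Finset.mem_insert, Finset.mem_singleton, not_or] at hq
  rcases h q (right_ne_zero_of_mul hne) with e | e | e
  exacts [hq.1 e, hq.2.1 e, hq.2.2 e]

/-- No three concurrent lines and a fourth one, next to a second line of the grid. -/
theorem no_configuration (hL : IsLine L) (hV : IsLine V) [DecidableEq J]
    (hVL : ∀ j l, dot (V j) (L l) = if j = l then 1 else 0) {e : Fin 4 → J}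
    (he : Function.Injective e) {a : ι} (h0 : L (e 0) a ≠ 0) (h1 : L (e 1) a ≠ 0)
    (h2 : L (e 2) a ≠ 0) (h3 : L (e 3) a = 0) : False := by
  classical
  obtain ⟨b, hb0, hb3, -⟩ := hL.meet (he.ne (show (0 : Fin 4) ≠ 3 by decide))
  obtain ⟨d, hd1, hd3, -⟩ := hL.meet (he.ne (show (1 : Fin 4) ≠ 3 by decide))
  obtain ⟨f, hf2, hf3, -⟩ := hL.meet (he.ne (show (2 : Fin 4) ≠ 3 by decide))
  obtain ⟨a01, -, -, hu01⟩ := hL.meet (he.ne (show (0 : Fin 4) ≠ 1 by decide))
  obtain ⟨a02, -, -, hu02⟩ := hL.meet (he.ne (show (0 : Fin 4) ≠ 2 by decide))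
  obtain ⟨a12, -, -, hu12⟩ := hL.meet (he.ne (show (1 : Fin 4) ≠ 2 by decide))
  have m01 : ∀ q, L (e 0) q ≠ 0 → L (e 1) q ≠ 0 → q = a := fun q hq hq' =>
    (hu01 q hq hq').trans (hu01 a h0 h1).symm
  have m02 : ∀ q, L (e 0) q ≠ 0 → L (e 2) q ≠ 0 → q = a := fun q hq hq' =>
    (hu02 q hq hq').trans (hu02 a h0 h2).symm
  have m12 : ∀ q, L (e 1) q ≠ 0 → L (e 2) q ≠ 0 → q = a := fun q hq hq' =>
    (hu12 q hq hq').trans (hu12 a h1 h2).symm
  have hab : a ≠ b := fun h => hb3 (h ▸ h3)
  have had : a ≠ d := fun h => hd3 (h ▸ h3)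
  have haf : a ≠ f := fun h => hf3 (h ▸ h3)
  have hbd : b ≠ d := fun h => hab (m01 b hb0 (h ▸ hd1)).symm
  have hbf : b ≠ f := fun h => hab (m02 b hb0 (h ▸ hf2)).symm
  have hdf : d ≠ f := fun h => had (m12 d hd1 (h ▸ hf2)).symm
  obtain ⟨c, hca, hcb, hc0, hs0⟩ := supp_eq_three (hL.norm (e 0)) hab h0 hb0
  obtain ⟨e', hea, hed, he1, hs1⟩ := supp_eq_three (hL.norm (e 1)) had h1 hd1
  obtain ⟨g, hga, hgf, hg2, hs2⟩ := supp_eq_three (hL.norm (e 2)) haf h2 hf2
  obtain ⟨f', hfb, hfd, hff, hs3⟩ := supp_eq_three (hL.norm (e 3)) hbd hb3 hd3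
  obtain rfl : f = f' := ((hs3 f hf3).resolve_left hbf.symm).resolve_left hdf.symm
  have hcd : c ≠ d := fun h => hca (m01 c hc0 (h ▸ hd1))
  have hce : c ≠ e' := fun h => hca (m01 c hc0 (h ▸ he1))
  have hcf : c ≠ f := fun h => hca (m02 c hc0 (h ▸ hf2))
  have hcg : c ≠ g := fun h => hca (m02 c hc0 (h ▸ hg2))
  have heb : e' ≠ b := fun h => hea (m01 e' (h ▸ hb0) he1)
  have hef : e' ≠ f := fun h => hea (m12 e' he1 (h ▸ hf2))
  have heg : e' ≠ g := fun h => hea (m12 e' he1 (h ▸ hg2))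
  have hgb : g ≠ b := fun h => hga (m02 g (h ▸ hb0) hg2)
  have hgd : g ≠ d := fun h => hga (m12 g (h ▸ hd1) hg2)
  let p : Fin 7 → ι := ![a, b, c, d, e', f, g]
  have hp : Function.Injective p := by
    have hnd : [a, b, c, d, e', f, g].Nodup := by
      simp [hab, hca.symm, had, hea.symm, haf, hga.symm, hcb.symm, hbd, heb.symm, hbf, hgb.symm,
        hcd, hce, hcf, hcg, hed.symm, hdf, hgd.symm, hef, heg, hgf.symm]
    have hpe : p = [a, b, c, d, e', f, g].get := by funext i; fin_cases i <;> rfl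
    rw [hpe]
    exact List.nodup_iff_injective_get.1 hnd
  let σ : Fin 7 → ℤ :=
    ![L (e 0) a, L (e 0) b, L (e 0) c, L (e 1) d, L (e 1) e', L (e 2) f, L (e 2) g]
  have unit : ∀ j q, L j q ≠ 0 → L j q * L j q = 1 := fun j q hq => by
    rcases entry_cases (hL.norm j) q with h | h | h <;> simp [h] at hq ⊢
  have hσ : ∀ s, σ s * σ s = 1 := by
    intro s
    fin_cases s
    exacts [unit _ _ h0, unit _ _ hb0, unit _ _ hc0, unit _ _ hd1, unit _ _ he1, unit _ _ hf2,
      unit _ _ hg2]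
  let u : Fin 4 → Fin 7 → ℤ := fun r s => σ s * V (e r) (p s)
  have hsum : ∀ r, u r 0 + u r 1 + u r 2 = (if r = 0 then 1 else 0) ∧
      u r 0 + u r 3 + u r 4 = (if r = 1 then 1 else 0) ∧
      u r 0 + u r 5 + u r 6 = (if r = 2 then 1 else 0) ∧
      u r 1 + u r 3 + u r 5 = (if r = 3 then 1 else 0) := by
    intro r
    have k0 := dot_of_supp (v := V (e r)) hab hca.symm hcb.symm hs0
    have k1 := dot_of_supp (v := V (e r)) had hea.symm hed.symm hs1
    have k2 := dot_of_supp (v := V (e r)) haf hga.symm hgf.symm hs2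
    have k3 := dot_of_supp (v := V (e r)) hbd hbf hdf hs3
    simp only [hVL, he.eq_iff] at k0 k1 k2 k3
    rw [← hL.same h0 h1] at k1
    rw [← hL.same h0 h2] at k2
    rw [← hL.same hb0 hb3, ← hL.same hd1 hd3, ← hL.same hf2 hf3] at k3
    simp only [u, σ, p, Matrix.cons_val]
    refine ⟨?_, ?_, ?_, ?_⟩ <;> linarith
  have hmem : ∀ r, u r ∈ cand r := by
    intro r
    have hv3 : ∀ s, ∃ i : Fin 3, u r s = val3 i := fun s => by
      rcases entry_cases (hV.norm (e r)) (p s) with h | h | h <;>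
        rcases mul_self_eq_one_iff.1 (hσ s) with h' | h' <;>
        simp only [u, h, h'] <;> first | exact ⟨0, rfl⟩ | exact ⟨1, rfl⟩ | exact ⟨2, rfl⟩
    choose i hi using hv3
    have heq : u r = ![val3 (i 0), val3 (i 1), val3 (i 2), val3 (i 3), val3 (i 4), val3 (i 5),
        val3 (i 6)] := by
      funext s; fin_cases s <;> simp [hi]
    obtain ⟨s1, s2, s3, s4⟩ := hsum r
    rw [heq]
    simp only [hi] at s1 s2 s3 s4
    refine cand_table _ _ _ _ _ _ _ r ?_ s1 s2 s3 s4
    have h7 := weight_restrict_le (hV.norm (e r)) p hp σ hσ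
    rw [show (fun s => σ s * V (e r) (p s)) = u r from rfl, heq] at h7
    simpa [weight, Fin.sum_univ_seven] using h7
  have hcomp : ∀ r s, r ≠ s → Compat (u r) (u s) := fun r s hrs =>
    compat_restrict (hV.norm _) (hV.norm _) (hV.inner _ _ (he.ne hrs)) (hV.pos _ _) p hp σ hσ
  exact cand_clash _ (hmem 0) _ (hmem 1) _ (hmem 2) _ (hmem 3)
    ⟨hcomp 0 1 (by decide), hcomp 0 2 (by decide), hcomp 0 3 (by decide), hcomp 1 2 (by decide),
      hcomp 1 3 (by decide), hcomp 2 3 (by decide)⟩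

theorem fin4_exists : ∀ i j k : Fin 4, ∃ l : Fin 4, l ≠ i ∧ l ≠ j ∧ l ≠ k := by decide

theorem fin4_cases : ∀ i j k l m : Fin 4, i ≠ j → i ≠ k → j ≠ k → l ≠ i → l ≠ j → l ≠ k →
    m = i ∨ m = j ∨ m = k ∨ m = l := by decide

theorem fin4_injective : ∀ i j k l : Fin 4, i ≠ j → i ≠ k → j ≠ k → l ≠ i → l ≠ j → l ≠ k →
    Function.Injective (![i, j, k, l] : Fin 4 → Fin 4) := by
  unfold Function.Injective; decide

/-- A line with at least four vectors has a centre. -/
theorem exists_centre [Fintype J] (hL : IsLine L) (hV : IsLine V) [DecidableEq J]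
    (hVL : ∀ j l, dot (V j) (L l) = if j = l then 1 else 0) (hn : 4 ≤ Fintype.card J) :
    ∃ a, ∀ j, L j a ≠ 0 := by
  classical
  obtain ⟨r, s, hrs⟩ := Fintype.exists_pair_of_one_lt_card (α := J) (by omega)
  obtain ⟨a, har, has, -⟩ := hL.meet hrs
  by_contra hno
  push Not at hno
  obtain ⟨t, ht⟩ := hno a
  have htr : t ≠ r := fun h => har (h ▸ ht)
  have hts : t ≠ s := fun h => has (h ▸ ht)
  obtain ⟨u, hu⟩ : ∃ u, u ∉ ({r, s, t} : Finset J) := by
    by_contra! hall
    have := (Finset.card_le_card (fun x (_ : x ∈ Finset.univ) => hall x)).trans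
      (Finset.card_le_three)
    rw [Finset.card_univ] at this
    omega
  simp only [Finset.mem_insert, Finset.mem_singleton, not_or] at hu
  obtain ⟨hur, hus, hut⟩ := hu
  let e : Fin 4 → J := ![r, s, t, u]
  have he : Function.Injective e := by
    have hnd : [r, s, t, u].Nodup := by
      simp [hrs, htr.symm, Ne.symm hur, hts.symm, Ne.symm hus, Ne.symm hut]
    have hpe : e = [r, s, t, u].get := by funext i; fin_cases i <;> rfl
    rw [hpe]
    exact List.nodup_iff_injective_get.1 hnd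
  obtain ⟨i, j, k, p, hij, hik, hjk, hi, hj, hk⟩ := exists_triple hL hVL e he
  obtain ⟨l, hli, hlj, hlk⟩ : ∃ l : Fin 4, l ≠ i ∧ l ≠ j ∧ l ≠ k := by
    exact fin4_exists i j k
  by_cases hl : L (e l) p = 0
  · let e' : Fin 4 → J := ![e i, e j, e k, e l]
    have he' : Function.Injective e' := by
      have h' : Function.Injective (![i, j, k, l] : Fin 4 → Fin 4) :=
        fin4_injective i j k l hij hik hjk hli hlj hlk
      have : e' = e ∘ ![i, j, k, l] := by funext x; fin_cases x <;> rfl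
      rw [this]
      exact he.comp h'
    exact no_configuration hL hV hVL he' (a := p) hi hj hk hl
  · have hall : ∀ m : Fin 4, L (e m) p ≠ 0 := by
      intro m
      have hm := fin4_cases i j k l m hij hik hjk hli hlj hlk
      rcases hm with rfl | rfl | rfl | rfl <;> assumption
    obtain ⟨q, -, -, hq⟩ := hL.meet hrs
    have h1 : p = a := (hq p (hall 0) (hall 1)).trans (hq a har has).symm
    exact hall 2 (h1 ▸ ht)

end Cfsg.Agent.CyclicTI.Grid
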