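import Cfsg.Agent.CyclicTI.Semidirect

/-!
# The characters of `K ⋊ W₁` that do not vanish outside the kernel

Every irreducible character of `L` that restricts irreducibly to `K` is, outside `W₂` on
`W = W₁ × W₂`, a sign times a linear character of `W`.
-/

namespace Cfsg.Agent.CyclicTI

open Char
open scoped ComplexConjugate

universe u

/-- A vector of integers with `m ∑ x² - (∑ x)² ≤ m - 1` is constant except at one place. -/
theorem one_place {I : Type*} [Fintype I] [DecidableEq I] (x : I → ℤ) {p r : I} (hpr : x p ≠ x r)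
    (h : (Fintype.card I : ℤ) * ∑ i, x i * x i - (∑ i, x i) * ∑ i, x i ≤ Fintype.card I - 1) :
    (Fintype.card I : ℤ) * ∑ i, x i * x i - (∑ i, x i) * ∑ i, x i = Fintype.card I - 1 ∧
    ∃ (i₀ : I) (s c : ℤ), (s = 1 ∨ s = -1) ∧ ∀ i, x i = c + if i = i₀ then s else 0 := by
  have hne : p ≠ r := fun e => hpr (e ▸ rfl)
  have hrp : r ∈ Finset.univ.erase p := Finset.mem_erase.2 ⟨hne.symm, Finset.mem_univ r⟩
  set R := (Finset.univ.erase p).erase r
  have hR : (R.card : ℤ) = Fintype.card I - 2 := by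
    have h1 : R.card + 2 = Fintype.card I := by
      have := Finset.card_erase_add_one hrp
      have := Finset.card_erase_add_one (Finset.mem_univ p)
      rw [Finset.card_univ] at this
      simp only [R]
      omega
    omega
  have split : ∀ F : I → ℤ, ∑ i, F i = F p + F r + ∑ i ∈ R, F i := fun F => by
    rw [← Finset.add_sum_erase _ F (Finset.mem_univ p), ← Finset.add_sum_erase _ F hrp]
    ring
  -- the pairs through `p` or `r`, and the others
  have hid : (Fintype.card I : ℤ) * ∑ i, x i * x i - (∑ i, x i) * ∑ i, x i =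
      (x p - x r) * (x p - x r) +
        ∑ l ∈ R, ((x p - x l) * (x p - x l) + (x r - x l) * (x r - x l)) +
        ((R.card : ℤ) * ∑ l ∈ R, x l * x l - (∑ l ∈ R, x l) * ∑ l ∈ R, x l) := by
    have e : ∀ l, (x p - x l) * (x p - x l) + (x r - x l) * (x r - x l) =
        (x p * x p + x r * x r) + 2 * (x l * x l) - 2 * (x p + x r) * x l := fun l => by ring
    rw [Finset.sum_congr rfl fun l _ => e l, Finset.sum_sub_distrib, Finset.sum_add_distrib,
      Finset.sum_const, ← Finset.mul_sum, ← Finset.mul_sum, nsmul_eq_mul, split, split,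
      show (Fintype.card I : ℤ) = R.card + 2 by omega]
    ring
  have hrest : 0 ≤ (R.card : ℤ) * ∑ l ∈ R, x l * x l - (∑ l ∈ R, x l) * ∑ l ∈ R, x l := by
    have := sq_sum_le_card_mul_sum_sq (s := R) (f := x)
    simp only [pow_two] at this
    linarith
  have hterm : ∀ l, 1 ≤ (x p - x l) * (x p - x l) + (x r - x l) * (x r - x l) := fun l => by
    rcases eq_or_ne (x p) (x l) with e | e
    · have := mul_self_pos.2 (show x r - x l ≠ 0 from sub_ne_zero.2 fun e' => hpr (e.trans e'.symm))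
      nlinarith [mul_self_nonneg (x p - x l)]
    · have := mul_self_pos.2 (sub_ne_zero.2 e)
      nlinarith [mul_self_nonneg (x r - x l)]
  have hsum : (R.card : ℤ) ≤ ∑ l ∈ R, ((x p - x l) * (x p - x l) + (x r - x l) * (x r - x l)) := by
    have := Finset.sum_le_sum (s := R) fun l _ => hterm l
    simpa using this
  have h1 : 1 ≤ (x p - x r) * (x p - x r) := mul_self_pos.2 (sub_ne_zero.2 hpr)
  have hd : (x p - x r) * (x p - x r) = 1 := by omega
  have heach : ∀ l ∈ R, (x p - x l) * (x p - x l) + (x r - x l) * (x r - x l) = 1 := by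
    have := (Finset.sum_eq_sum_iff_of_le fun l _ => hterm l).1 (show
      ∑ l ∈ R, (1 : ℤ) = ∑ l ∈ R, ((x p - x l) * (x p - x l) + (x r - x l) * (x r - x l)) by
        rw [Finset.sum_const, nsmul_eq_mul, mul_one]; omega)
    exact fun l hl => (this l hl).symm
  have hzero : (R.card : ℤ) * ∑ l ∈ R, x l * x l - (∑ l ∈ R, x l) * ∑ l ∈ R, x l = 0 := by omega
  refine ⟨by omega, ?_⟩
  -- the others take one common value
  have hconst : ∀ l ∈ R, ∀ l' ∈ R, x l = x l' := by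
    intro l hl l' hl'
    by_contra hne'
    have h2 : (R.card : ℤ) * ∑ i ∈ R, x i * x i - (∑ i ∈ R, x i) * ∑ i ∈ R, x i =
        ∑ i ∈ R, ∑ i' ∈ R, (x i * x i - x i * x i') := by
      simp only [Finset.sum_sub_distrib, Finset.sum_const, nsmul_eq_mul, ← Finset.mul_sum,
        ← Finset.sum_mul]
    have h3 : ∑ i ∈ R, ∑ i' ∈ R, (x i - x i') * (x i - x i') =
        2 * ∑ i ∈ R, ∑ i' ∈ R, (x i * x i - x i * x i') := by
      have hswap : ∑ i ∈ R, ∑ i' ∈ R, x i' * x i' = ∑ i ∈ R, ∑ i' ∈ R, x i * x i :=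
        Finset.sum_comm
      have e : ∀ a b : ℤ, (a - b) * (a - b) = (a * a - 2 * (a * b)) + b * b := fun a b => by ring
      simp only [e, Finset.sum_add_distrib, Finset.sum_sub_distrib, hswap, ← Finset.mul_sum]
      ring
    have h4 : (x l - x l') * (x l - x l') ≤ ∑ i ∈ R, ∑ i' ∈ R, (x i - x i') * (x i - x i') :=
      (Finset.single_le_sum (f := fun i' => (x l - x i') * (x l - x i'))
        (fun i _ => mul_self_nonneg _) hl').trans
        (Finset.single_le_sum (f := fun i => ∑ i' ∈ R, (x i - x i') * (x i - x i'))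
          (fun i _ => Finset.sum_nonneg fun i' _ => mul_self_nonneg _) hl)
    have := mul_self_pos.2 (sub_ne_zero.2 hne')
    rw [h3, ← h2, hzero] at h4
    omega
  have hmem : ∀ i, i = p ∨ i = r ∨ i ∈ R := fun i => by
    by_cases h1 : i = p
    · exact Or.inl h1
    · by_cases h2 : i = r
      · exact Or.inr (Or.inl h2)
      · exact Or.inr (Or.inr (Finset.mem_erase.2 ⟨h2, Finset.mem_erase.2 ⟨h1, Finset.mem_univ i⟩⟩))
  have heq : ∀ l ∈ R, x l = x p ∨ x l = x r := fun l hl => by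
    by_contra! hc
    have := mul_self_pos.2 (sub_ne_zero.2 hc.1.symm)
    have := mul_self_pos.2 (sub_ne_zero.2 hc.2.symm)
    have := heach l hl
    omega
  have hs : x p - x r = 1 ∨ x p - x r = -1 := mul_self_eq_one_iff.1 hd
  by_cases hall : ∀ l ∈ R, x l = x r
  · refine ⟨p, x p - x r, x r, hs, fun i => ?_⟩
    rcases hmem i with rfl | rfl | hi
    · rw [if_pos rfl]; ring
    · rw [if_neg hne.symm, add_zero]
    · rw [if_neg (Finset.ne_of_mem_erase (Finset.mem_of_mem_erase hi)), add_zero]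
      exact hall i hi
  · push Not at hall
    obtain ⟨l, hl, hlr⟩ := hall
    have hlp : x l = x p := (heq l hl).resolve_right hlr
    refine ⟨r, x r - x p, x p, by omega, fun i => ?_⟩
    rcases hmem i with rfl | rfl | hi
    · rw [if_neg hne, add_zero]
    · rw [if_pos rfl]; ring
    · rw [if_neg (Finset.ne_of_mem_erase hi), add_zero]
      exact (hconst i hi l hl).trans hlp

section Sums

variable {L : Type u} [Group L] [Fintype L] {W₁ W₂ : Subgroup L}

theorem conj_hom_mul_self {H : Type*} [Group H] [Finite H] (f : H →* ℂˣ) (x : H) :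
    (f x : ℂ) * conj (f x : ℂ) = 1 := by
  rw [← IsChar.inv_eq_conj (isCharacter_hom f) x, ← Units.val_mul, ← map_mul, mul_inv_cancel,
    map_one, Units.val_one]

theorem prod_bijective (hW : Cfsg.IsSelfNormalizingCyclic W₁ W₂) :
    Function.Bijective (fun x : W₁ × W₂ =>
      (⟨(x.1 : L) * x.2, Subgroup.mul_mem_sup x.1.2 x.2.2⟩ : ↥(W₁ ⊔ W₂))) := by
  rw [Nat.bijective_iff_surjective_and_card, Nat.card_prod, card_sup hW]
  refine ⟨fun w => ?_, rfl⟩
  obtain ⟨a, ha, b, hb, e⟩ := (mem_sup_iff hW.2.2.2.1).1 w.2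
  exact ⟨(⟨a, ha⟩, ⟨b, hb⟩), Subtype.ext e⟩

theorem sum_sup (hW : Cfsg.IsSelfNormalizingCyclic W₁ W₂) [Fintype ↥(W₁ ⊔ W₂)] [Fintype W₁]
    [Fintype W₂] (F : L → ℂ) : ∑ w : ↥(W₁ ⊔ W₂), F w = ∑ a : W₁, ∑ b : W₂, F ((a : L) * b) := by
  rw [← Fintype.sum_prod_type (f := fun x : W₁ × W₂ => F ((x.1 : L) * x.2))]
  exact (Fintype.sum_bijective _ (prod_bijective hW) _ _ fun x => rfl).symm

/-- Irreducible characters of the abelian group `W` are its linear characters. -/
theorem homChar_bijective (hcyc : IsCyclic ↥(W₁ ⊔ W₂)) :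
    Function.Bijective (fun f : ↥(W₁ ⊔ W₂) →* ℂˣ =>
      (⟨fun w => (f w : ℂ), isIrrCharacter_hom f⟩ : IrrCharacter ↥(W₁ ⊔ W₂))) := by
  refine ⟨fun f g e => MonoidHom.ext fun w => Units.ext (congrFun (congrArg Subtype.val e) w),
    fun χ => ?_⟩
  have : IsMulCommutative ↥(W₁ ⊔ W₂) := hcyc.isMulCommutative
  obtain ⟨f, hf⟩ := IsChar.exists_hom (IsIrr.isCharacter χ.2)
    (IsIrr.degree_one_of_isMulCommutative χ.2)
  exact ⟨f, Subtype.ext hf.symm⟩

end Sums

namespace PrimePair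

variable {L : Type u} [Group L] [Fintype L] {K W₁ W₂ : Subgroup L} [hK : K.Normal]

theorem not_mem (h : PrimePair K W₁ W₂) {a b : L} (ha : a ∈ W₁) (hb : b ∈ W₂) (ha1 : a ≠ 1) :
    a * b ∉ K := fun hm => by
  have hm' : a ∈ K ⊓ W₁ := ⟨by simpa using K.mul_mem hm (K.inv_mem (h.le₂ hb)), ha⟩
  rw [h.disj, Subgroup.mem_bot] at hm'
  exact ha1 hm'

theorem not_mem₂ (h : PrimePair K W₁ W₂) {a b : L} (ha : a ∈ W₁) (hb : b ∈ W₂) (ha1 : a ≠ 1) :
    a * b ∉ W₂ := fun hm => h.not_mem ha hb ha1 (h.le₂ hm)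

/-- A sum over a coset of `K` is a multiple of a sum over a coset of `W₂`. -/
theorem sum_coset (h : PrimePair K W₁ W₂) [Fintype K] [Fintype W₂] {F : L → ℂ}
    (hF : IsClassFunction L F) {a : L} (ha : a ∈ W₁) (ha1 : a ≠ 1) :
    ∑ k : K, F ((k : L) * a) = ((W₁ ⊔ W₂).index : ℂ) * ∑ b : W₂, F (a * b) := by
  classical
  have hW := h.selfNormalizing
  have hmem : ∀ (g : L) (b : W₂), g * (a * b) * g⁻¹ * a⁻¹ ∈ K := fun g b => by
    rw [← QuotientGroup.eq_one_iff (N := K)]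
    have : IsMulCommutative (L ⧸ K) := h.isCyclic_quotient.isMulCommutative
    simp only [QuotientGroup.mk_mul, QuotientGroup.mk_inv,
      (QuotientGroup.eq_one_iff (b : L)).2 (h.le₂ b.2), mul_one]
    rw [mul_comm' (g : L ⧸ K) (a : L ⧸ K), mul_inv_cancel_right, mul_inv_cancel]
  let T : (L ⧸ (W₁ ⊔ W₂)) × W₂ → K := fun x =>
    ⟨x.1.out * (a * x.2) * x.1.out⁻¹ * a⁻¹, hmem x.1.out x.2⟩
  have hbij : Function.Bijective T := by
    rw [Nat.bijective_iff_injective_and_card]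
    refine ⟨fun x y e => ?_, ?_⟩
    · have e1 : x.1.out * (a * x.2) * x.1.out⁻¹ = y.1.out * (a * y.2) * y.1.out⁻¹ :=
        mul_right_cancel (congrArg Subtype.val e)
      have e2 : y.1.out⁻¹ * x.1.out * (a * x.2) * (y.1.out⁻¹ * x.1.out)⁻¹ = a * y.2 :=
        calc y.1.out⁻¹ * x.1.out * (a * x.2) * (y.1.out⁻¹ * x.1.out)⁻¹ =
            y.1.out⁻¹ * (x.1.out * (a * x.2) * x.1.out⁻¹) * y.1.out := by group
          _ = a * y.2 := by rw [e1]; group
      have hm := h.mem_of_conj ha ha1 x.2.2 (g := y.1.out⁻¹ * x.1.out)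
        (by rw [e2]; exact Subgroup.mul_mem_sup ha y.2.2)
      have hx1 : y.1 = x.1 := by
        rw [← QuotientGroup.out_eq' y.1, ← QuotientGroup.out_eq' x.1]
        exact QuotientGroup.eq.2 hm
      rw [hx1] at e1
      exact Prod.ext hx1.symm (Subtype.ext (mul_left_cancel (mul_left_cancel (mul_right_cancel e1))))
    · rw [Nat.card_prod, ← Subgroup.index_eq_card]
      have h1 := (W₁ ⊔ W₂).index_mul_card
      rw [card_sup hW, h.card_eq] at h1
      exact Nat.eq_of_mul_eq_mul_right (Nat.card_pos (α := W₁)) (by rw [← h1]; ring)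
  rw [← Fintype.sum_bijective T hbij (fun x => F (a * (x.2 : L)))
    (fun k : K => F ((k : L) * a)) fun x => by simp [T, hF _ _], Fintype.sum_prod_type]
  simp only [Finset.sum_const, Finset.card_univ, nsmul_eq_mul, ← Nat.card_eq_fintype_card,
    ← Subgroup.index_eq_card]

variable [Fintype K] [Fintype W₂] [Fintype ↥(W₁ ⊔ W₂)]

/-- Products of two characters restricting irreducibly, summed over a coset of `W₂`. -/
theorem sum_coset_inner (h : PrimePair K W₁ W₂) {χ χ' : L → ℂ} (hχ : IsIrrCharacter L χ)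
    (hres : IsIrrCharacter K (fun k : K => χ k)) (hχ' : IsIrrCharacter L χ') {a : L}
    (ha : a ∈ W₁) (ha1 : a ≠ 1) :
    (∑ b : W₂, χ (a * b) * conj (χ (a * b)) = (Nat.card W₂ : ℂ)) ∧
      (classInner (fun k : K => χ' k) (fun k : K => χ k) = 0 →
        ∑ b : W₂, χ' (a * b) * conj (χ (a * b)) = 0) := by
  have hidx : ((W₁ ⊔ W₂).index : ℂ) ≠ 0 := Nat.cast_ne_zero.2 Subgroup.index_ne_zero_of_finite
  have hprod : ∀ {f f' : L → ℂ}, IsClassFunction L f → IsClassFunction L f' →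
      IsClassFunction L fun g => f g * conj (f' g) := fun hf hf' g k =>
    congrArg₂ (fun a b => a * conj b) (hf g k) (hf' g k)
  refine ⟨?_, fun h0 => ?_⟩
  · have h1 := avg_normSq_eq_one K hχ hres a
    rw [h.sum_coset (F := fun g => χ g * conj (χ g))
      (hprod (isClassFunction_of_isIrr hχ) (isClassFunction_of_isIrr hχ)) ha ha1,
      inv_mul_eq_one₀ card_ne_zero] at h1
    refine mul_left_cancel₀ hidx (h1.symm.trans ?_)
    have h2 := (W₁ ⊔ W₂).index_mul_card
    rw [card_sup h.selfNormalizing, h.card_eq] at h2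
    have h3 : Nat.card K = (W₁ ⊔ W₂).index * Nat.card W₂ :=
      Nat.eq_of_mul_eq_mul_right (Nat.card_pos (α := W₁)) (by rw [← h2]; ring)
    rw [h3, Nat.cast_mul]
  · have h1 : (Nat.card K : ℂ)⁻¹ * ∑ k : K, χ' ((k : L) * a) * conj (χ ((k : L) * a)) = 0 :=
      congrFun ((gallagher K hχ hres hχ').2 h0) a
    rw [h.sum_coset (F := fun g => χ' g * conj (χ g))
      (hprod (isClassFunction_of_isIrr hχ') (isClassFunction_of_isIrr hχ)) ha ha1] at h1
    exact (mul_eq_zero.1 ((mul_eq_zero.1 h1).resolve_left (inv_ne_zero card_ne_zero))).resolve_left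
      hidx

/-- **The key lemma**: outside `W₂` such a character is a sign times a linear character of `W`. -/
theorem exists_sign (h : PrimePair K W₁ W₂) {χ : L → ℂ} (hχ : IsIrrCharacter L χ)
    (hres : IsIrrCharacter K (fun k : K => χ k)) :
    ∃ (φ₀ : LeftAll W₁ W₂) (ψ₀ : RightAll W₁ W₂) (s : ℂ), (s = 1 ∨ s = -1) ∧
      ∀ w : ↥(W₁ ⊔ W₂), (w : L) ∉ W₂ → χ w = s * ((φ₀.1 w : ℂ) * (ψ₀.1 w : ℂ)) := by
  classical
  have hW := h.selfNormalizing
  have hc := h.comm
  have hcyc := hW.2.2.2.2.1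
  have := finite_hom (W₁ ⊔ W₂)
  have := Fintype.ofFinite (LeftAll W₁ W₂)
  have := Fintype.ofFinite (RightAll W₁ W₂)
  have := Fintype.ofFinite (↥(W₁ ⊔ W₂) →* ℂˣ)
  have := Fintype.ofFinite W₁
  obtain ⟨hcI, hcJ⟩ := card_all hW
  have hcw : IsCharacter ↥(W₁ ⊔ W₂) (fun w : ↥(W₁ ⊔ W₂) => χ w) :=
    isCharacter_res _ (IsIrr.isCharacter hχ)
  choose n hn using fun x : LeftAll W₁ W₂ × RightAll W₁ W₂ =>
    classInner_isCharacter_eq_natCast hcw (isCharacter_hom (x.1.1 * x.2.1))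
  let e := Equiv.ofBijective _ ((homChar_bijective hcyc).comp (mul_bijective hW))
  have hexp : ∀ w : ↥(W₁ ⊔ W₂), χ w =
      ∑ x : LeftAll W₁ W₂ × RightAll W₁ W₂, (n x : ℂ) * ((x.1.1 w : ℂ) * (x.2.1 w : ℂ)) := by
    intro w
    have h1 := congrFun (classFun_expansion (isClassFunction_of_isCharacter hcw)) w
    simp only [Finset.sum_apply, Pi.smul_apply, smul_eq_mul] at h1
    rw [h1, ← e.sum_comp]
    exact Finset.sum_congr rfl fun x _ => congrArg₂ (· * ·) (hn x)
      (by simp [e])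
  -- the norm on `W`
  have hnormW : ∑ w : ↥(W₁ ⊔ W₂), χ w * conj (χ w) =
      (Nat.card ↥(W₁ ⊔ W₂) : ℂ) * ∑ x, (n x : ℂ) * n x := by
    have h1 := classInner_eq_sum (f' := fun w : ↥(W₁ ⊔ W₂) => χ w)
      (isClassFunction_of_isCharacter hcw)
    rw [classInner, inv_mul_eq_iff_eq_mul₀ card_ne_zero] at h1
    rw [h1, ← e.sum_comp]
    congr 1
    refine Finset.sum_congr rfl fun x _ => congrArg₂ (· * ·) (hn x) ?_
    rw [← classInner_conj_symm]
    exact (congrArg conj (hn x)).trans (Complex.conj_natCast _)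
  -- the norm on `W₂`
  let ψr : RightAll W₁ W₂ → (W₂ →* ℂˣ) := fun j => j.1.comp (Subgroup.inclusion le_sup_right)
  have hψr : Function.Injective ψr := fun j j' e => by
    have h1 := eq_one_of_trivial hc (j.1 * j'.1⁻¹) (fun w hw => by simp [j.2 w hw, j'.2 w hw])
      fun w hw => by
        have h2 : ψr j ⟨w, hw⟩ = ψr j' ⟨w, hw⟩ := by rw [e]
        exact mul_inv_eq_one.2 h2
    exact Subtype.ext (MonoidHom.ext fun w => mul_inv_eq_one.1 (DFunLike.congr_fun h1 w))
  let S : RightAll W₁ W₂ → ℤ := fun j => ∑ i, (n (i, j) : ℤ)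
  have hres2 : ∀ b : W₂, χ b = ∑ j, (S j : ℂ) * (ψr j b : ℂ) := by
    intro b
    rw [show χ b = χ ((⟨b, Subgroup.mem_sup_right b.2⟩ : ↥(W₁ ⊔ W₂)) : L) from rfl, hexp,
      Fintype.sum_prod_type, Finset.sum_comm]
    refine Finset.sum_congr rfl fun j _ => ?_
    simp only [S, Int.cast_sum, Int.cast_natCast, Finset.sum_mul]
    refine Finset.sum_congr rfl fun i _ => ?_
    rw [i.2 _ b.2, Units.val_one, one_mul]
    rfl
  have hnorm2 : ∑ b : W₂, χ b * conj (χ b) = (Nat.card W₂ : ℂ) * ∑ j, (S j : ℂ) * S j := by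
    have h1 : classInner (fun b : W₂ => χ b) (fun b : W₂ => χ b) = ∑ j, (S j : ℂ) * S j := by
      have hfe : (fun b : W₂ => χ b) = ∑ j, (S j : ℂ) • fun b : W₂ => (ψr j b : ℂ) := by
        funext b
        simp only [hres2, Finset.sum_apply, Pi.smul_apply, smul_eq_mul]
      rw [hfe]
      simp only [classInner_sum_left, classInner_sum_right, classInner_smul_left,
        classInner_smul_right, classInner_hom, map_intCast, hψr.eq_iff, mul_ite, mul_one, mul_zero,
        Finset.sum_ite_eq', Finset.sum_ite_eq, Finset.mem_univ, if_true]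
    rw [classInner, inv_mul_eq_iff_eq_mul₀ card_ne_zero] at h1
    exact h1
  -- the identity
  have hq : ∑ j : RightAll W₁ W₂, ((Fintype.card (LeftAll W₁ W₂) : ℤ) *
      ∑ i, (n (i, j) : ℤ) * n (i, j) - S j * S j) = Fintype.card (LeftAll W₁ W₂) - 1 := by
    have h1 := sum_sup hW (fun g => χ g * conj (χ g))
    rw [hnormW, ← Finset.add_sum_erase _ _ (Finset.mem_univ (1 : W₁))] at h1
    simp only [OneMemClass.coe_one, one_mul] at h1
    rw [hnorm2, Finset.sum_congr rfl fun a ha => (h.sum_coset_inner hχ hres hχ a.2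
      fun e => Finset.ne_of_mem_erase ha (Subtype.ext e)).1, Finset.sum_const, nsmul_eq_mul,
      Finset.card_erase_of_mem (Finset.mem_univ _), Finset.card_univ, ← Nat.card_eq_fintype_card,
      card_sup hW, Nat.cast_sub (Nat.card_pos (α := W₁)), Nat.cast_mul, Nat.cast_one,
      Fintype.sum_prod_type, Finset.sum_comm] at h1
    have hne : (Nat.card W₂ : ℂ) ≠ 0 := card_ne_zero
    have h2 : ((∑ j : RightAll W₁ W₂, ((Fintype.card (LeftAll W₁ W₂) : ℤ) *
        ∑ i, (n (i, j) : ℤ) * n (i, j) - S j * S j) : ℤ) : ℂ) =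
        (((Fintype.card (LeftAll W₁ W₂) : ℤ) - 1 : ℤ) : ℂ) := by
      rw [← Nat.card_eq_fintype_card (α := LeftAll W₁ W₂), hcI]
      simp only [Int.cast_sum, Int.cast_sub, Int.cast_mul, Int.cast_natCast, Int.cast_one,
        Finset.sum_sub_distrib, ← Finset.mul_sum]
      exact mul_left_cancel₀ hne (by linear_combination h1)
    exact_mod_cast h2
  have hnn : ∀ j, 0 ≤ (Fintype.card (LeftAll W₁ W₂) : ℤ) * ∑ i, (n (i, j) : ℤ) * n (i, j) -
      S j * S j := fun j => by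
    have := sq_sum_le_card_mul_sum_sq (s := (Finset.univ : Finset (LeftAll W₁ W₂)))
      (f := fun i => (n (i, j) : ℤ))
    simp only [pow_two, Finset.card_univ] at this
    linarith
  have hI2 : 2 ≤ Fintype.card (LeftAll W₁ W₂) := by
    rw [← Nat.card_eq_fintype_card, hcI]
    have := mt Subgroup.card_eq_one.1 h.ne₁
    have := Nat.card_pos (α := W₁)
    omega
  obtain ⟨j₀, p, r, hpr⟩ : ∃ j p r, (n (p, j) : ℤ) ≠ n (r, j) := by
    by_contra! hall
    obtain ⟨i⟩ : Nonempty (LeftAll W₁ W₂) := ⟨⟨1, fun _ _ => rfl⟩⟩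
    have : ∀ j, (Fintype.card (LeftAll W₁ W₂) : ℤ) * ∑ i, (n (i, j) : ℤ) * n (i, j) -
        S j * S j = 0 := fun j => by
      simp only [S, hall j _ i, Finset.sum_const, Finset.card_univ, nsmul_eq_mul]
      ring
    rw [Finset.sum_eq_zero fun j _ => this j] at hq
    omega
  have hle : ∀ j, (Fintype.card (LeftAll W₁ W₂) : ℤ) * ∑ i, (n (i, j) : ℤ) * n (i, j) -
      S j * S j ≤ Fintype.card (LeftAll W₁ W₂) - 1 := fun j =>
    hq ▸ Finset.single_le_sum (fun j _ => hnn j) (Finset.mem_univ j)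
  obtain ⟨heq, i₀, s, c, hs, hval⟩ :=
    one_place (fun i => (n (i, j₀) : ℤ)) hpr (by simpa [S] using hle j₀)
  have hother : ∀ j, j ≠ j₀ → ∀ i i', (n (i, j) : ℤ) = n (i', j) := by
    intro j hj i i'
    by_contra hne
    have h1 := (one_place (fun i => (n (i, j) : ℤ)) hne (by simpa [S] using hle j)).1
    rw [← Finset.add_sum_erase _ _ (Finset.mem_univ j₀)] at hq
    have h2 := Finset.single_le_sum (fun l _ => hnn l)
      (Finset.mem_erase.2 ⟨hj, Finset.mem_univ j⟩ : j ∈ Finset.univ.erase j₀)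
    simp only [S] at hq h2 heq h1
    omega
  refine ⟨i₀, j₀, (s : ℂ), by rcases hs with rfl | rfl <;> simp, fun w hw => ?_⟩
  have hsum : ∑ i : LeftAll W₁ W₂, (i.1 w : ℂ) = 0 := by
    have := sum_hom hcyc W₂ w
    rw [if_neg hw] at this
    exact this
  rw [hexp, Fintype.sum_prod_type, Finset.sum_comm, Finset.sum_eq_single j₀]
  · have e2 : ∀ i, (n (i, j₀) : ℂ) = (c : ℂ) + if i = i₀ then (s : ℂ) else 0 := fun i => by
      have := congrArg (Int.cast : ℤ → ℂ) (hval i)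
      push_cast at this
      exact this
    simp only [e2, add_mul, ite_mul, zero_mul, Finset.sum_add_distrib, Finset.sum_ite_eq',
      Finset.mem_univ, if_true, ← Finset.mul_sum, ← Finset.sum_mul, hsum, mul_zero, zero_add]
  · intro j _ hj
    have e2 : ∀ i, (n (i, j) : ℂ) = (n (i₀, j) : ℂ) := fun i => by
      exact_mod_cast (hother j hj i i₀)
    simp only [e2, ← Finset.mul_sum, ← Finset.sum_mul, hsum, zero_mul, mul_zero]
  · simp

/-- **The characters `μ`.** -/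
theorem exists_mu (h : PrimePair K W₁ W₂) :
    ∃ (μ : (↥(W₁ ⊔ W₂) →* ℂˣ) → (L → ℂ)) (δ : (↥(W₁ ⊔ W₂) →* ℂˣ) → ℂ),
      Function.Injective μ ∧ (∀ ω, IsIrrCharacter L (μ ω)) ∧ (∀ ω, δ ω = 1 ∨ δ ω = -1) ∧
      (∀ ω ω' : ↥(W₁ ⊔ W₂) →* ℂˣ, (∀ w : ↥(W₁ ⊔ W₂), (w : L) ∈ W₂ → ω w = ω' w) →
        δ ω = δ ω' ∧ indFun (W₁ ⊔ W₂) (fun w => (ω w : ℂ) - (ω' w : ℂ)) = δ ω • (μ ω - μ ω')) ∧
      (∀ ω, ∀ w : ↥(W₁ ⊔ W₂), (w : L) ∉ W₂ → μ ω w = δ ω * (ω w : ℂ)) ∧
      (∀ θ : L → ℂ, IsIrrCharacter L θ → (∀ ω, θ ≠ μ ω) →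
        ∀ w : ↥(W₁ ⊔ W₂), (w : L) ∉ W₂ → θ w = 0) ∧
      (∀ ω, ∃ z : ℤ, μ ω 1 - δ ω = z * (Nat.card W₁ : ℂ)) := by
  classical
  have hW := h.selfNormalizing
  have hc := h.comm
  have := finite_hom (W₁ ⊔ W₂)
  have := Fintype.ofFinite (LeftAll W₁ W₂)
  have := Fintype.ofFinite (RightAll W₁ W₂)
  have := Fintype.ofFinite W₁
  obtain ⟨a₀, ha₀, ha₀1⟩ := (Subgroup.bot_or_exists_ne_one W₁).resolve_left h.ne₁
  choose χ hχ hres using fun θ : {θ : IrrCharacter K // Invariant W₁ (θ : K → ℂ)} =>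
    h.exists_extension θ.1.2 θ.2
  have hres' : ∀ θ, (fun k : K => χ θ k) = ((θ.1 : IrrCharacter K) : K → ℂ) :=
    fun θ => funext (hres θ)
  have hresirr : ∀ θ, IsIrrCharacter K (fun k : K => χ θ k) := fun θ => (hres' θ).symm ▸ θ.1.2
  choose φ₀ ψ₀ s hs hval using fun θ => h.exists_sign (hχ θ) (hresirr θ)
  have hψinj : Function.Injective ψ₀ := by
    intro θ θ' he
    by_contra hne
    have hz := (h.sum_coset_inner (hχ θ') (hresirr θ') (hχ θ) ha₀ ha₀1).2 (by
      rw [hres', hres']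
      exact classInner_irr_ne θ.1.2 θ'.1.2 fun e => hne (Subtype.ext (Subtype.ext e)))
    have hterm : ∀ b : W₂, χ θ (a₀ * b) * conj (χ θ' (a₀ * b)) =
        s θ * conj (s θ') * ((φ₀ θ).1 ⟨a₀, Subgroup.mem_sup_left ha₀⟩ : ℂ) *
          conj ((φ₀ θ').1 ⟨a₀, Subgroup.mem_sup_left ha₀⟩ : ℂ) := by
      intro b
      have hw := h.not_mem₂ ha₀ b.2 ha₀1
      have hwm : a₀ * (b : L) ∈ W₁ ⊔ W₂ := Subgroup.mul_mem_sup ha₀ b.2
      rw [hval θ ⟨_, hwm⟩ hw, hval θ' ⟨_, hwm⟩ hw, he]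
      have hsplit : ∀ f : LeftAll W₁ W₂,
          f.1 ⟨_, hwm⟩ = f.1 ⟨a₀, Subgroup.mem_sup_left ha₀⟩ := fun f => by
        rw [show (⟨_, hwm⟩ : ↥(W₁ ⊔ W₂)) = ⟨a₀, Subgroup.mem_sup_left ha₀⟩ *
          ⟨(b : L), Subgroup.mem_sup_right b.2⟩ from rfl, map_mul,
          f.2 ⟨(b : L), Subgroup.mem_sup_right b.2⟩ b.2, mul_one]
      rw [hsplit, hsplit, map_mul, map_mul]
      have h1 := conj_hom_mul_self (ψ₀ θ').1 ⟨_, hwm⟩
      linear_combination (s θ * conj (s θ') * ((φ₀ θ).1 ⟨a₀, Subgroup.mem_sup_left ha₀⟩ : ℂ) *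
        conj ((φ₀ θ').1 ⟨a₀, Subgroup.mem_sup_left ha₀⟩ : ℂ)) * h1
    rw [Finset.sum_congr rfl fun b _ => hterm b, Finset.sum_const, Finset.card_univ,
      nsmul_eq_mul] at hz
    simp only [mul_eq_zero, Nat.cast_eq_zero, Fintype.card_ne_zero, map_eq_zero,
      Units.ne_zero, or_false, false_or] at hz
    rcases hz with hz | hz
    · rcases hs θ with e | e <;> simp [e] at hz
    · rcases hs θ' with e | e <;> simp [e] at hz
  have hψbij : Function.Bijective ψ₀ := by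
    rw [Nat.bijective_iff_injective_and_card]
    exact ⟨hψinj, by rw [h.card_invariant, (card_all hW).2]⟩
  let Θ := (Equiv.ofBijective ψ₀ hψbij).symm
  have hΘ : ∀ j, ψ₀ (Θ j) = j := fun j => (Equiv.ofBijective ψ₀ hψbij).apply_symm_apply j
  let E := (Equiv.ofBijective _ (mul_bijective hW)).symm
  have hE : ∀ ω, (E ω).1.1 * (E ω).2.1 = ω := fun ω =>
    (Equiv.ofBijective _ (mul_bijective hW)).apply_symm_apply ω
  let δ : (↥(W₁ ⊔ W₂) →* ℂˣ) → ℂ := fun ω => s (Θ (E ω).2)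
  let μ : (↥(W₁ ⊔ W₂) →* ℂˣ) → (L → ℂ) := fun ω => fun g =>
    χ (Θ (E ω).2) g * (h.lift ((E ω).1.1 * ((φ₀ (Θ (E ω).2)).1)⁻¹) g : ℂ)
  have hμirr : ∀ ω, IsIrrCharacter L (μ ω) := fun ω => isIrr_mul_hom (hχ _) _
  have hμres : ∀ ω, (fun k : K => μ ω k) = ((Θ (E ω).2).1 : K → ℂ) := fun ω => funext fun k => by
    simp [μ, h.lift_mem _ k.2, hres]
  have hμval : ∀ ω, ∀ w : ↥(W₁ ⊔ W₂), (w : L) ∉ W₂ → μ ω w = δ ω * (ω w : ℂ) := by
    intro ω w hw
    simp only [μ, δ]
    rw [hval _ w hw, h.lift_coe _ (fun v hv => by simp [(E ω).1.2 v hv, (φ₀ _).2 v hv]) w, hΘ,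
      MonoidHom.mul_apply, MonoidHom.inv_apply, Units.val_mul, Units.val_inv_eq_inv_val]
    have h0 : (((φ₀ (Θ (E ω).2)).1 w : ℂˣ) : ℂ) ≠ 0 := Units.ne_zero _
    have hωw : (ω w : ℂ) = ((E ω).1.1 w : ℂ) * ((E ω).2.1 w : ℂ) := by
      conv_lhs => rw [← hE ω, MonoidHom.mul_apply, Units.val_mul]
    rw [hωw]
    field_simp
  have hμinj : Function.Injective μ := by
    intro ω ω' e
    have h1 : Θ (E ω).2 = Θ (E ω').2 := Subtype.ext (Subtype.ext ((hμres ω).symm.trans
      ((congrArg (fun (f : L → ℂ) (k : K) => f k) e).trans (hμres ω'))))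
    have h2 : (E ω).2 = (E ω').2 := Θ.injective h1
    obtain ⟨-, hinj, -⟩ := h.twist_spec (hχ (Θ (E ω).2)) (hresirr _)
    have h3 := hinj (a₁ := ⟨(E ω).1.1 * ((φ₀ (Θ (E ω).2)).1)⁻¹,
        fun v hv => by simp [(E ω).1.2 v hv, (φ₀ _).2 v hv]⟩)
      (a₂ := ⟨(E ω').1.1 * ((φ₀ (Θ (E ω).2)).1)⁻¹,
        fun v hv => by simp [(E ω').1.2 v hv, (φ₀ _).2 v hv]⟩) (by
          funext g
          have h4 := congrFun e g
          simp only [μ, ← h2] at h4
          exact h4)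
    have h5 : (E ω).1 = (E ω').1 := Subtype.ext (MonoidHom.ext fun v =>
      mul_right_cancel (DFunLike.congr_fun (congrArg Subtype.val h3) v))
    exact E.injective (Prod.ext h5 h2)
  have hδ : ∀ ω ω' : ↥(W₁ ⊔ W₂) →* ℂˣ, (∀ w : ↥(W₁ ⊔ W₂), (w : L) ∈ W₂ → ω w = ω' w) →
      δ ω = δ ω' := by
    intro ω ω' hag
    have : (E ω).2 = (E ω').2 := by
      have h1 := eq_one_of_trivial hc ((E ω).2.1 * ((E ω').2.1)⁻¹)
        (fun v hv => by simp [(E ω).2.2 v hv, (E ω').2.2 v hv]) fun v hv => by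
          have h2 := hag v hv
          rw [← hE ω, ← hE ω', MonoidHom.mul_apply, MonoidHom.mul_apply, (E ω).1.2 v hv,
            (E ω').1.2 v hv, one_mul, one_mul] at h2
          exact mul_inv_eq_one.2 h2
      exact Subtype.ext (MonoidHom.ext fun w => mul_inv_eq_one.1 (DFunLike.congr_fun h1 w))
    simp only [δ, this]
  have hsign : ∀ ω, δ ω = 1 ∨ δ ω = -1 := fun ω => hs _
  have hvanish : ∀ θ : L → ℂ, IsIrrCharacter L θ → (∀ ω, θ ≠ μ ω) →
      ∀ w : ↥(W₁ ⊔ W₂), (w : L) ∉ W₂ → θ w = 0 := by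
    intro θ hθ hne w hw
    obtain ⟨η, hη⟩ := exists_constituent_res (N := K) hθ
    by_cases hi : Invariant W₁ (η : K → ℂ)
    · obtain ⟨-, -, hover⟩ := h.twist_spec (hχ ⟨η, hi⟩) (hresirr _)
      obtain ⟨φ, hφ⟩ := hover θ hθ (by rw [hres']; exact hη)
      let ω := (Equiv.ofBijective _ (mul_bijective hW))
        (⟨φ.1 * (φ₀ ⟨η, hi⟩).1, fun v hv => by simp [φ.2 v hv, (φ₀ ⟨η, hi⟩).2 v hv]⟩, ψ₀ ⟨η, hi⟩)
      refine absurd ?_ (hne ω)
      have hEω : E ω =
          (⟨φ.1 * (φ₀ ⟨η, hi⟩).1, fun v hv => by simp [φ.2 v hv, (φ₀ ⟨η, hi⟩).2 v hv]⟩,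
            ψ₀ ⟨η, hi⟩) :=
        (Equiv.ofBijective _ (mul_bijective hW)).symm_apply_apply _
      have hΘω : Θ (ψ₀ ⟨η, hi⟩) = ⟨η, hi⟩ :=
        (Equiv.ofBijective ψ₀ hψbij).symm_apply_apply _
      rw [hφ]
      funext g
      simp only [μ, hEω, hΘω]
      congr 3
      exact MonoidHom.ext fun v => (mul_inv_cancel_right _ _).symm
    · have hirr := h.isIrr_indFun η.2 hi
      have he : θ = indFun K (η : K → ℂ) := by
        by_contra hne'
        refine hη ?_
        have h1 := classInner_irr_ne hθ hirr hne'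
        rwa [classInner_indFun_right _ _ (isClassFunction_of_isIrr hθ)] at h1
      obtain ⟨a, ha, b, hb, e⟩ := (mem_sup_iff hc).1 w.2
      have ha1 : a ≠ 1 := fun h1 => hw (by rw [← e, h1, one_mul]; exact hb)
      rw [he, ← e, indFun_apply_of_normal _ _ (h.not_mem ha hb ha1)]
  refine ⟨μ, δ, hμinj, hμirr, hsign, fun ω ω' hag => ⟨hδ ω ω' hag, ?_⟩, hμval, hvanish, fun ω => ?_⟩
  · refine classFun_ext (isClassFunction_indFun _ _) (fun g k => ?_) fun η => ?_
    · simp only [Pi.smul_apply, Pi.sub_apply]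
      rw [isClassFunction_of_isIrr (hμirr ω) g k, isClassFunction_of_isIrr (hμirr ω') g k]
    rw [classInner_indFun_left _ _ (isClassFunction_of_isIrr η.2), classInner_smul_left,
      classInner_sub_left]
    by_cases hex : ∃ ν, (η : L → ℂ) = μ ν
    · obtain ⟨ν, hν⟩ := hex
      have hreal : conj (δ ν) = δ ν := by rcases hsign ν with e | e <;> simp [e]
      have h1 : classInner (fun w : ↥(W₁ ⊔ W₂) => (ω w : ℂ) - (ω' w : ℂ))
          (fun w : ↥(W₁ ⊔ W₂) => (η : L → ℂ) w) =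
          δ ν * classInner (fun w : ↥(W₁ ⊔ W₂) => (ω w : ℂ) - (ω' w : ℂ))
            (fun w : ↥(W₁ ⊔ W₂) => (ν w : ℂ)) := by
        simp only [classInner, Finset.mul_sum]
        refine Finset.sum_congr rfl fun w _ => ?_
        by_cases hw : (w : L) ∈ W₂
        · rw [hag w hw]; simp
        · rw [hν, hμval ν w hw, map_mul, hreal]; ring
      rw [h1, show (fun w : ↥(W₁ ⊔ W₂) => (ω w : ℂ) - (ω' w : ℂ)) =
        (fun w => (ω w : ℂ)) - fun w => (ω' w : ℂ) from rfl, classInner_sub_left, classInner_hom,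
        classInner_hom, hν, classInner_irr (hμirr ω) (hμirr ν),
        classInner_irr (hμirr ω') (hμirr ν)]
      simp only [hμinj.eq_iff]
      by_cases h2 : ω = ν
      · subst h2; simp
      by_cases h3 : ω' = ν
      · subst h3; rw [hδ ω ω' hag]
      simp [h2, h3]
    · push Not at hex
      rw [classInner_irr_ne (hμirr ω) η.2 (hex ω).symm,
        classInner_irr_ne (hμirr ω') η.2 (hex ω').symm]
      simp only [classInner, sub_zero, mul_zero]
      refine mul_eq_zero_of_right _ (Finset.sum_eq_zero fun w _ => ?_)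
      by_cases hw : (w : L) ∈ W₂
      · rw [hag w hw]; simp
      · rw [hvanish η η.2 hex w hw]; simp
  · let f : W₁ →* ℂˣ := ω.comp (Subgroup.inclusion le_sup_left)
    obtain ⟨k, hk⟩ := classInner_isCharacter_eq_natCast
      (isCharacter_res W₁ (IsIrr.isCharacter (hμirr ω))) (isCharacter_hom f)
    rw [classInner, inv_mul_eq_iff_eq_mul₀ card_ne_zero,
      ← Finset.add_sum_erase _ _ (Finset.mem_univ (1 : W₁)),
      Finset.sum_congr rfl fun (a : W₁) ha => show μ ω (a : L) * conj (f a : ℂ) = δ ω by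
        have hne : (a : L) ∉ W₂ := by
          have := h.not_mem₂ a.2 W₂.one_mem fun e => Finset.ne_of_mem_erase ha (Subtype.ext e)
          rwa [mul_one] at this
        rw [hμval ω ⟨a, Subgroup.mem_sup_left a.2⟩ hne]
        have h1 := conj_hom_mul_self f a
        rw [show f a = ω ⟨a, Subgroup.mem_sup_left a.2⟩ from rfl] at h1 ⊢
        linear_combination (δ ω) * h1,
      Finset.sum_const, nsmul_eq_mul, Finset.card_erase_of_mem (Finset.mem_univ _),
      Finset.card_univ, ← Nat.card_eq_fintype_card, Nat.cast_sub Nat.card_pos] at hk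
    simp only [OneMemClass.coe_one, map_one, Units.val_one, mul_one, Nat.cast_one] at hk
    rcases hsign ω with e | e
    · exact ⟨(k : ℤ) - 1, by rw [e] at hk ⊢; push_cast; linear_combination hk⟩
    · exact ⟨(k : ℤ) + 1, by rw [e] at hk ⊢; push_cast; linear_combination hk⟩

end PrimePair

end Cfsg.Agent.CyclicTI
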