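import Cfsg.Agent.CyclicTI.Apply
import Cfsg.Agent.S1510
import Cfsg.Agent.S1512
import Cfsg.Agent.Char.CliffordCorr
import Cfsg.Agent.Char.Gallagher
import Cfsg.Agent.Char.Perm
import Cfsg.Agent.Char.UniqueDivisible
import Cfsg.Agent.ProjExt.Criteria

/-!
# A cyclic Hall complement with the same fixed points for all its non-identity elements
-/

namespace Cfsg.Agent.CyclicTI

open Char
open scoped ComplexConjugate

universe u

variable {L : Type u} [Group L]

/-- The hypotheses on `L = K ⋊ W₁` with `W₂ = C_K(x)` for all non-identity `x ∈ W₁`. -/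
structure PrimePair (K W₁ W₂ : Subgroup L) : Prop where
  disj : K ⊓ W₁ = ⊥
  sup : K ⊔ W₁ = ⊤
  ne₁ : W₁ ≠ ⊥
  cyc₁ : IsCyclic W₁
  hall : Nat.Coprime (Nat.card W₁) W₁.index
  ne₂ : W₂ ≠ ⊥
  cyc₂ : IsCyclic W₂
  le₂ : W₂ ≤ K
  cent : ∀ x ∈ W₁, x ≠ 1 → K ⊓ Subgroup.centralizer ({x} : Set L) = W₂
  odd : Odd (Nat.card ↥(W₁ ⊔ W₂))

namespace PrimePair

variable {K W₁ W₂ : Subgroup L} [hK : K.Normal]

theorem selfNormalizing [Fintype L] (h : PrimePair K W₁ W₂) :
    Cfsg.IsSelfNormalizingCyclic W₁ W₂ :=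
  S1510.result K W₁ W₂ h.disj h.sup h.ne₁ h.cyc₁ h.hall h.ne₂ h.cyc₂ h.le₂ h.cent h.odd

theorem comm (h : PrimePair K W₁ W₂) : ∀ a ∈ W₁, ∀ b ∈ W₂, a * b = b * a := by
  intro a ha b hb
  by_cases h1 : a = 1
  · rw [h1, one_mul, mul_one]
  have h2 := (h.cent a ha h1).symm ▸ hb
  exact (Subgroup.mem_centralizer_singleton_iff.1 h2.2).symm

theorem card_eq [Finite L] (h : PrimePair K W₁ W₂) : Nat.card L = Nat.card K * Nat.card W₁ :=
  (Subgroup.isComplement'_of_disjoint_and_mul_eq_univ (disjoint_iff.2 h.disj)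
    (by rw [← Subgroup.normal_mul, h.sup, Subgroup.coe_top])).card_mul_card.symm

theorem index_left [Finite L] (h : PrimePair K W₁ W₂) : K.index = Nat.card W₁ := by
  have h1 := K.index_mul_card
  rw [h.card_eq, mul_comm (Nat.card K)] at h1
  exact Nat.eq_of_mul_eq_mul_right Nat.card_pos h1

theorem coprime [Finite L] (h : PrimePair K W₁ W₂) : (Nat.card W₁).Coprime (Nat.card K) := by
  have h1 := W₁.index_mul_card
  rw [h.card_eq] at h1
  exact Nat.eq_of_mul_eq_mul_right Nat.card_pos h1 ▸ h.hall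

theorem bijective_mk (h : PrimePair K W₁ W₂) :
    Function.Bijective ((QuotientGroup.mk' K).comp W₁.subtype) := by
  refine ⟨(injective_iff_map_eq_one _).2 fun w hw => ?_, fun q => ?_⟩
  · have hm : (w : L) ∈ K ⊓ W₁ := ⟨(QuotientGroup.eq_one_iff (w : L)).1 hw, w.2⟩
    rw [h.disj, Subgroup.mem_bot] at hm
    exact Subtype.ext hm
  · obtain ⟨g, rfl⟩ := QuotientGroup.mk'_surjective K q
    obtain ⟨k, hk, w, hw, rfl⟩ := Subgroup.mem_sup_of_normal_left.1
      (show g ∈ K ⊔ W₁ from h.sup ▸ Subgroup.mem_top g)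
    exact ⟨⟨w, hw⟩, by simp [(QuotientGroup.eq_one_iff k).2 hk]⟩

theorem isCyclic_quotient (h : PrimePair K W₁ W₂) : IsCyclic (L ⧸ K) := by
  have := h.cyc₁
  exact isCyclic_of_surjective _ h.bijective_mk.2

/-- The projection on `W₁`. -/
noncomputable def proj (h : PrimePair K W₁ W₂) : L →* W₁ :=
  (MulEquiv.ofBijective _ h.bijective_mk).symm.toMonoidHom.comp (QuotientGroup.mk' K)

theorem proj_mul (h : PrimePair K W₁ W₂) {k a : L} (hk : k ∈ K) (ha : a ∈ W₁) :
    (h.proj (k * a) : L) = a := by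
  have h1 : h.proj (k * a) = ⟨a, ha⟩ := by
    show (MulEquiv.ofBijective _ h.bijective_mk).symm (QuotientGroup.mk' K (k * a)) = _
    rw [MulEquiv.symm_apply_eq]
    show _ = QuotientGroup.mk' K a
    rw [map_mul, QuotientGroup.mk'_apply _ k, (QuotientGroup.eq_one_iff k).2 hk, one_mul]
  rw [h1]

theorem proj_self (h : PrimePair K W₁ W₂) {a : L} (ha : a ∈ W₁) : (h.proj a : L) = a := by
  simpa using h.proj_mul K.one_mem ha

theorem proj_mem (h : PrimePair K W₁ W₂) {k : L} (hk : k ∈ K) : h.proj k = 1 :=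
  Subtype.ext (by simpa using h.proj_mul hk W₁.one_mem)

theorem mem_of_proj (h : PrimePair K W₁ W₂) (g : L) : g * (h.proj g : L)⁻¹ ∈ K := by
  obtain ⟨k, hk, a, ha, rfl⟩ := Subgroup.mem_sup_of_normal_left.1
    (show g ∈ K ⊔ W₁ from h.sup ▸ Subgroup.mem_top g)
  rw [h.proj_mul hk ha, mul_inv_cancel_right]
  exact hk

/-- The lift to `L` of a linear character of `W₁ ⊔ W₂`, through the projection. -/
noncomputable def lift (h : PrimePair K W₁ W₂) (φ : ↥(W₁ ⊔ W₂) →* ℂˣ) : L →* ℂˣ :=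
  φ.comp ((Subgroup.inclusion le_sup_left).comp h.proj)

theorem lift_mem (h : PrimePair K W₁ W₂) (φ : ↥(W₁ ⊔ W₂) →* ℂˣ) {k : L} (hk : k ∈ K) :
    h.lift φ k = 1 := by
  simp [lift, h.proj_mem hk]

theorem lift_coe (h : PrimePair K W₁ W₂) (φ : ↥(W₁ ⊔ W₂) →* ℂˣ)
    (hφ : ∀ w : ↥(W₁ ⊔ W₂), (w : L) ∈ W₂ → φ w = 1) (w : ↥(W₁ ⊔ W₂)) : h.lift φ w = φ w := by
  obtain ⟨a, ha, b, hb, e⟩ := (mem_sup_iff h.comm).1 w.2
  have hw : w = ⟨a, Subgroup.mem_sup_left ha⟩ * ⟨b, Subgroup.mem_sup_right hb⟩ := Subtype.ext e.symm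
  have h1 : h.lift φ a = φ ⟨a, Subgroup.mem_sup_left ha⟩ := by
    simp only [lift, MonoidHom.coe_comp, Function.comp_apply]
    exact congrArg φ (Subtype.ext (h.proj_self ha))
  rw [← e, map_mul, h1, h.lift_mem φ (h.le₂ hb), mul_one]
  conv_rhs => rw [hw, map_mul, hφ ⟨b, Subgroup.mem_sup_right hb⟩ hb, mul_one]

variable [Fintype L]

/-- Conjugates of elements of `W` outside `W₂` that lie in `W` come from `W`. -/
theorem mem_of_conj (h : PrimePair K W₁ W₂) {a b g : L} (ha : a ∈ W₁) (ha1 : a ≠ 1) (hb : b ∈ W₂)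
    (hy : g * (a * b) * g⁻¹ ∈ W₁ ⊔ W₂) : g ∈ W₁ ⊔ W₂ := by
  obtain ⟨a', ha', b', hb', e⟩ := (mem_sup_iff h.comm).1 hy
  obtain ⟨k, hk1, hk2⟩ := exists_split
    (h.coprime.coprime_dvd_right (Subgroup.card_dvd_of_le h.le₂))
  have hcomm' : IsMulCommutative W₁ := h.cyc₁.isMulCommutative
  have e1 : h.proj (a' * b') = h.proj (g * (a * b) * g⁻¹) := by rw [e]
  simp only [map_mul, map_inv, h.proj_mem (h.le₂ hb), h.proj_mem (h.le₂ hb'), mul_one] at e1
  rw [mul_comm' (h.proj g), mul_inv_cancel_right] at e1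
  have haa : a' = a := by
    rw [← h.proj_self ha', ← h.proj_self ha, e1]
  have hga : g * a * g⁻¹ = a := by
    have h1 : (a' * b') ^ k = (g * (a * b) * g⁻¹) ^ k := by rw [e]
    rw [conj_pow, (show Commute a' b' from h.comm a' ha' b' hb').mul_pow,
      (show Commute a b from h.comm a ha b hb).mul_pow, hk1 a ha, hk1 a' ha', hk2 b hb, hk2 b' hb',
      mul_one, mul_one, haa] at h1
    exact h1.symm
  have hw : (h.proj g : L) ∈ W₁ := (h.proj g).2
  have hwa : (h.proj g : L) * a = a * h.proj g :=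
    congrArg Subtype.val (mul_comm' (h.proj g) (⟨a, ha⟩ : W₁))
  have hm : g * (h.proj g : L)⁻¹ ∈ W₂ := by
    suffices hmem : g * (h.proj g : L)⁻¹ ∈ K ⊓ Subgroup.centralizer ({a} : Set L) by
      rwa [h.cent a ha ha1] at hmem
    refine ⟨h.mem_of_proj g, Subgroup.mem_centralizer_singleton_iff.2 ?_⟩
    have h1 : g * a = a * g := mul_inv_eq_iff_eq_mul.1 hga
    have h2 : Commute (h.proj g : L)⁻¹ a := (show Commute (h.proj g : L) a from hwa).inv_left
    rw [mul_assoc, h2.eq, ← mul_assoc, h1, mul_assoc]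
  have := Subgroup.mul_mem_sup (S := W₂) (T := W₁) hm hw
  rwa [inv_mul_cancel_right, sup_comm] at this

/-- Conjugation on classes. -/
def classMap (K : Subgroup L) [K.Normal] (x : L) : ConjClasses K → ConjClasses K :=
  ConjClasses.map (MulEquiv.toMonoidHom ((MulAut.conjNormal x : MulAut K)))

theorem card_fixed_classes (h : PrimePair K W₁ W₂) {x : L} (hx : x ∈ W₁) (hx1 : x ≠ 1) :
    Nat.card {C : ConjClasses K // classMap K x C = C} = Nat.card W₂ := by
  refine le_antisymm (S1512.result K W₂ x hx1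
    (h.coprime.coprime_dvd_left (Subgroup.orderOf_dvd_natCard W₁ hx))
    fun y hy hy1 => h.cent y (Subgroup.zpowers_le.2 hx hy) hy1) ?_
  have : Finite (ConjClasses K) := Quotient.finite _
  have hfix : ∀ b : W₂, classMap K x (ConjClasses.mk (⟨b, h.le₂ b.2⟩ : K)) =
      ConjClasses.mk (⟨b, h.le₂ b.2⟩ : K) := fun b => by
    refine congrArg ConjClasses.mk (Subtype.ext ?_)
    show ((MulAut.conjNormal x : MulAut K) ⟨b, h.le₂ b.2⟩ : L) = b
    rw [MulAut.conjNormal_apply, h.comm x hx b b.2, mul_inv_cancel_right]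
  refine Nat.card_le_card_of_injective (fun b : W₂ => ⟨_, hfix b⟩) fun b b' hbb => ?_
  obtain ⟨c, hc⟩ := isConj_iff.1 (ConjClasses.mk_eq_mk_iff_isConj.1 (congrArg Subtype.val hbb))
  have hc' : (c : L) * b * (c : L)⁻¹ = b' := by simpa using congrArg Subtype.val hc
  -- the coset of the centralizer contains a fixed point
  set A := Subgroup.zpowers x with hA
  set C := K ⊓ Subgroup.centralizer ({(b : L)} : Set L) with hC
  set y := (c : L)⁻¹ * x * c with hy
  have hAC : A ≤ Subgroup.normalizer (C : Set L) := by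
    rw [hA, Subgroup.zpowers_le, Subgroup.mem_set_normalizer_iff]
    intro n
    have hxb : Commute x (b : L) := h.comm x hx b b.2
    constructor
    · rintro ⟨hn1, hn2⟩
      refine ⟨hK.conj_mem n hn1 x, Subgroup.mem_centralizer_singleton_iff.2 ?_⟩
      have hnb : Commute n (b : L) := Subgroup.mem_centralizer_singleton_iff.1 hn2
      exact ((hxb.mul_left hnb).mul_left hxb.inv_left).eq
    · rintro ⟨hn1, hn2⟩
      refine ⟨by simpa [mul_assoc] using hK.conj_mem _ hn1 x⁻¹,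
        Subgroup.mem_centralizer_singleton_iff.2 ?_⟩
      have hnb : Commute (x * n * x⁻¹) (b : L) := Subgroup.mem_centralizer_singleton_iff.1 hn2
      have := ((hxb.inv_left.mul_left hnb).mul_left hxb).eq
      simpa [mul_assoc] using this
  have hcop : (Nat.card A).Coprime (Nat.card C) := by
    rw [hA, Nat.card_zpowers]
    exact (h.coprime.coprime_dvd_left (Subgroup.orderOf_dvd_natCard W₁ hx)).coprime_dvd_right
      (Subgroup.card_dvd_of_le inf_le_left)
  have hyC : y * x⁻¹ ∈ C := by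
    refine ⟨?_, Subgroup.mem_centralizer_singleton_iff.2 ?_⟩
    · rw [hy, mul_assoc ((c : L)⁻¹), mul_assoc ((c : L)⁻¹), mul_assoc x]
      exact K.mul_mem (K.inv_mem c.2) (by simpa [mul_assoc] using hK.conj_mem _ c.2 x)
    · have hyb : Commute y (b : L) := by
        have hxb' : Commute x (b' : L) := h.comm x hx b' b'.2
        show y * b = b * y
        calc y * b = (c : L)⁻¹ * (x * ((c : L) * b * (c : L)⁻¹)) * c := by simp [hy, mul_assoc]
          _ = (c : L)⁻¹ * (((c : L) * b * (c : L)⁻¹) * x) * c := by rw [hc', hxb'.eq]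
          _ = b * y := by simp [hy, mul_assoc]
      exact (hyb.mul_left (show Commute x (b : L) from h.comm x hx b b.2).inv_left).eq
  have hB : Subgroup.zpowers y ≤ C ⊔ A := by
    rw [Subgroup.zpowers_le]
    have := Subgroup.mul_mem_sup hyC (Subgroup.mem_zpowers x)
    rwa [inv_mul_cancel_right] at this
  have hBc : Nat.card (Subgroup.zpowers y) = Nat.card A := by
    rw [hA, Nat.card_zpowers, Nat.card_zpowers]
    have h1 := orderOf_injective (MulAut.conj ((c : L)⁻¹)).toMonoidHom (MulEquiv.injective _) x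
    simpa [hy] using h1
  obtain ⟨i, hi, hiB⟩ := Coprime.exists_conj_eq hAC hcop
    (Or.inl (Group.isSolvable_of_comm fun p q => IsMulCommutative.is_comm.comm p q)) hB hBc
  have hz : i * y * i⁻¹ ∈ A := by
    rw [← hiB, Coprime.mem_conj_smul]
    simpa [mul_assoc] using Subgroup.mem_zpowers y
  have hzW : i * y * i⁻¹ ∈ W₁ := Subgroup.zpowers_le.2 hx hz
  have hiy : i * y * i⁻¹ = x := by
    have : IsMulCommutative W₁ := h.cyc₁.isMulCommutative
    rw [← h.proj_self hzW, ← h.proj_self hx]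
    simp [hy, h.proj_mem hi.1, h.proj_mem c.2]
  have hic : (c : L) * i⁻¹ ∈ W₂ := by
    rw [← h.cent x hx hx1]
    refine ⟨K.mul_mem c.2 (K.inv_mem hi.1), Subgroup.mem_centralizer_singleton_iff.2 ?_⟩
    calc (c : L) * i⁻¹ * x = (c : L) * i⁻¹ * (i * y * i⁻¹) := by rw [hiy]
      _ = x * ((c : L) * i⁻¹) := by simp [hy, mul_assoc]
  have hib : Commute i (b : L) := Subgroup.mem_centralizer_singleton_iff.1 hi.2
  have : IsMulCommutative W₂ := h.cyc₂.isMulCommutative
  have hcb : Commute ((c : L) * i⁻¹) (b : L) :=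
    congrArg Subtype.val (mul_comm' (⟨_, hic⟩ : W₂) b)
  have hcb' : Commute (c : L) (b : L) := by
    simpa [mul_assoc] using hcb.mul_left hib
  refine Subtype.ext ?_
  rw [← hc', hcb'.eq, mul_inv_cancel_right]

/-- Fixed by all of `W₁`. -/
def Invariant (W₁ : Subgroup L) (θ : K → ℂ) : Prop := ∀ x ∈ W₁, Char.conjFun x θ = θ

theorem invariant_of_one (h : PrimePair K W₁ W₂) {θ : K → ℂ} (hθ : IsIrrCharacter K θ) {y : L}
    (hy : y ∈ W₁) (hy1 : y ≠ 1) (hfix : Char.conjFun y θ = θ) : Invariant W₁ θ := by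
  classical
  obtain ⟨⟨x₀, hx₀⟩, hgen⟩ := h.cyc₁.exists_generator
  have hx01 : x₀ ≠ 1 := by
    rintro rfl
    refine h.ne₁ (le_bot_iff.1 fun z hz => ?_)
    obtain ⟨i, hi⟩ := Subgroup.mem_zpowers_iff.1 (hgen ⟨z, hz⟩)
    simpa using (congrArg Subtype.val hi).symm
  let σ : L → IrrCharacter K → IrrCharacter K := fun x χ => ⟨_, isIrr_conjFun x χ.2⟩
  have hcard : ∀ x ∈ W₁, x ≠ 1 →
      Nat.card {χ : IrrCharacter K // σ x χ = χ} = Nat.card W₂ := fun x hx hx1 => by
    rw [brauer_permutation (σ x) (classMap K x) fun χ g g' hg => ?_, h.card_fixed_classes hx hx1]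
    have hg' : IsConj ((MulAut.conjNormal x : MulAut K) g) g' :=
      ConjClasses.mk_eq_mk_iff_isConj.1 hg
    exact classFun_isConj (isClassFunction_of_isIrr χ.2) hg'
  have hsub : ∀ χ : IrrCharacter K, σ x₀ χ = χ → ∀ x ∈ W₁, Char.conjFun x (χ : K → ℂ) = χ := by
    intro χ hχ x hx
    obtain ⟨i, hi⟩ := Subgroup.mem_zpowers_iff.1 (hgen ⟨x, hx⟩)
    have hix : x₀ ^ i = x := congrArg Subtype.val hi
    have h1 : x₀ ∈ inertia (χ : K → ℂ) := mem_inertia.2 (congrArg Subtype.val hχ)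
    exact mem_inertia.1 (hix ▸ Subgroup.zpow_mem _ h1 i)
  have himg : Function.Bijective (fun χ : {χ : IrrCharacter K // σ x₀ χ = χ} =>
      (⟨χ.1, Subtype.ext (hsub χ.1 χ.2 y hy)⟩ : {χ : IrrCharacter K // σ y χ = χ})) := by
    rw [Nat.bijective_iff_injective_and_card]
    refine ⟨fun a b e => Subtype.ext (congrArg (fun z : {χ : IrrCharacter K // σ y χ = χ} => z.1) e),
      by rw [hcard y hy hy1, hcard x₀ hx₀ hx01]⟩
  obtain ⟨⟨χ, hχ⟩, he⟩ := himg.2 ⟨⟨θ, hθ⟩, Subtype.ext hfix⟩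
  have he' : χ = (⟨θ, hθ⟩ : IrrCharacter K) := congrArg Subtype.val he
  intro x hx
  have := hsub χ hχ x hx
  rwa [he'] at this

theorem card_invariant (h : PrimePair K W₁ W₂) :
    Nat.card {θ : IrrCharacter K // Invariant W₁ (θ : K → ℂ)} = Nat.card W₂ := by
  classical
  obtain ⟨y, hy, hy1⟩ := (Subgroup.bot_or_exists_ne_one W₁).resolve_left h.ne₁
  rw [Nat.card_congr (Equiv.subtypeEquivRight fun (θ : IrrCharacter K) => show Invariant W₁ (θ : K → ℂ) ↔
      (fun χ : IrrCharacter K => (⟨_, isIrr_conjFun y χ.2⟩ : IrrCharacter K)) θ = θ from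
    ⟨fun hi => Subtype.ext (hi y hy), fun hi => h.invariant_of_one θ.2 hy hy1
      (congrArg Subtype.val hi)⟩),
    brauer_permutation _ (classMap K y) fun χ g g' hg => ?_, h.card_fixed_classes hy hy1]
  have hg' : IsConj ((MulAut.conjNormal y : MulAut K) g) g' :=
    ConjClasses.mk_eq_mk_iff_isConj.1 hg
  exact classFun_isConj (isClassFunction_of_isIrr χ.2) hg'

theorem inertia_eq_top (h : PrimePair K W₁ W₂) {θ : K → ℂ} (hθ : IsIrrCharacter K θ)
    (hi : Invariant W₁ θ) : inertia θ = ⊤ := by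
  rw [eq_top_iff, ← h.sup]
  exact sup_le (le_inertia (isClassFunction_of_isIrr hθ)) fun x hx => mem_inertia.2 (hi x hx)

theorem isIrr_indFun (h : PrimePair K W₁ W₂) [Fintype K] {θ : K → ℂ} (hθ : IsIrrCharacter K θ)
    (hi : ¬ Invariant W₁ θ) : IsIrrCharacter L (indFun K θ) := by
  refine isIrr_indFun_of_inertia hθ (le_antisymm (fun g hg => ?_)
    (le_inertia (isClassFunction_of_isIrr hθ)))
  obtain ⟨k, hk, a, ha, rfl⟩ := Subgroup.mem_sup_of_normal_left.1
    (show g ∈ K ⊔ W₁ from h.sup ▸ Subgroup.mem_top g)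
  by_cases ha1 : a = 1
  · rwa [ha1, mul_one]
  · refine absurd (h.invariant_of_one hθ ha ha1 (mem_inertia.1 ?_)) hi
    have := (inertia θ).mul_mem
      ((inertia θ).inv_mem (le_inertia (isClassFunction_of_isIrr hθ) hk)) hg
    rwa [inv_mul_cancel_left] at this

theorem exists_extension (h : PrimePair K W₁ W₂) {θ : K → ℂ} (hθ : IsIrrCharacter K θ)
    (hi : Invariant W₁ θ) : ∃ χ : L → ℂ, IsIrrCharacter L χ ∧ ∀ k : K, χ k = θ k := by
  obtain ⟨D⟩ := ProjExt.exists_data hθ fun g k =>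
    congrFun (mem_inertia.1 (h.inertia_eq_top hθ hi ▸ Subgroup.mem_top g)) k
  exact D.exists_extension_of_splits
    (D.cocycle.splits_of_cyclic h.isCyclic_quotient ProjExt.exists_root)

/-- Twists of an extension by the linear characters of `L` trivial on `K`. -/
theorem twist_spec (h : PrimePair K W₁ W₂) [Fintype K] {χ : L → ℂ} (hχ : IsIrrCharacter L χ)
    (hres : IsIrrCharacter K (fun k : K => χ k)) :
    (∀ f : L →* ℂˣ, IsIrrCharacter L (fun g => χ g * (f g : ℂ))) ∧
      (Function.Injective fun φ : LeftAll W₁ W₂ =>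
        (fun g => χ g * (h.lift φ.1 g : ℂ) : L → ℂ)) ∧
      ∀ μ : L → ℂ, IsIrrCharacter L μ → classInner (fun k : K => μ k) (fun k : K => χ k) ≠ 0 →
        ∃ φ : LeftAll W₁ W₂, μ = fun g => χ g * (h.lift φ.1 g : ℂ) := by
  refine ⟨fun f => isIrr_mul_hom hχ f, fun φ φ' e => ?_, fun μ hμ hne => ?_⟩
  · refine Subtype.ext (MonoidHom.ext fun w => ?_)
    rw [← h.lift_coe φ.1 φ.2 w, ← h.lift_coe φ'.1 φ'.2 w]
    have h1 := avg_normSq_eq_one K hχ hres (w : L)
    obtain ⟨k, -, hk⟩ := Finset.exists_ne_zero_of_sum_ne_zero (right_ne_zero_of_mul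
      (h1.symm ▸ one_ne_zero : (Nat.card K : ℂ)⁻¹ * _ ≠ 0))
    have h2 := mul_left_cancel₀ (left_ne_zero_of_mul hk) (congrFun e ((k : L) * w))
    rw [map_mul, map_mul, h.lift_mem _ k.2, h.lift_mem _ k.2, one_mul, one_mul] at h2
    exact Units.ext h2
  · obtain ⟨hirr, hker, hprod⟩ := (gallagher K hχ hres hμ).1 hne
    obtain ⟨β, hβ, he⟩ := IsIrr.exists_quotient K hirr hker
    have : IsMulCommutative (L ⧸ K) := h.isCyclic_quotient.isMulCommutative
    have h1 : galEta K χ μ 1 = 1 := by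
      rw [he, QuotientGroup.mk_one]
      exact IsIrr.degree_one_of_isMulCommutative hβ
    obtain ⟨f, hf⟩ := IsChar.exists_hom (IsIrr.isCharacter hirr) h1
    have hfK : ∀ k ∈ K, f k = 1 := fun k hk => Units.ext (by
      have := hker k hk
      rw [h1, hf] at this
      simpa using this)
    refine ⟨⟨f.comp (W₁ ⊔ W₂).subtype, fun w hw => hfK _ (h.le₂ hw)⟩, ?_⟩
    rw [hprod, hf]
    funext g
    rw [Pi.mul_apply, mul_comm]
    congr 2
    have := h.mem_of_proj g
    conv_lhs => rw [← inv_mul_cancel_right g (h.proj g : L), map_mul, hfK _ this, one_mul]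
    rfl

theorem indFun_invariant (h : PrimePair K W₁ W₂) [Fintype K] {θ : K → ℂ}
    (hθ : IsIrrCharacter K θ) (hi : Invariant W₁ θ) :
    ∃ C : Finset (L → ℂ), C.card = Nat.card W₁ ∧ (∀ μ ∈ C, IsIrrCharacter L μ) ∧
      indFun K θ = ∑ μ ∈ C, μ := by
  classical
  have := finite_hom (W₁ ⊔ W₂)
  have := Fintype.ofFinite (LeftAll W₁ W₂)
  obtain ⟨χ, hχ, hres⟩ := h.exists_extension hθ hi
  have hres' : (fun k : K => χ k) = θ := funext hres
  obtain ⟨htw, hinj, hover⟩ := h.twist_spec hχ (hres' ▸ hθ)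
  refine ⟨Finset.univ.image fun φ : LeftAll W₁ W₂ => fun g => χ g * (h.lift φ.1 g : ℂ), ?_, ?_, ?_⟩
  · rw [Finset.card_image_of_injective _ hinj, Finset.card_univ, ← Nat.card_eq_fintype_card,
      (card_all h.selfNormalizing).1]
  · intro μ hμ
    obtain ⟨φ, -, rfl⟩ := Finset.mem_image.1 hμ
    exact htw _
  · rw [Finset.sum_image fun a _ b _ e => hinj e]
    refine classFun_ext (isClassFunction_indFun K θ) (fun g k => ?_) fun η => ?_
    · simp only [Finset.sum_apply]
      exact Finset.sum_congr rfl fun φ _ => isClassFunction_of_isIrr (htw (h.lift φ.1)) g k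
    · rw [classInner_indFun_left _ _ (isClassFunction_of_isIrr η.2), classInner_sum_left]
      by_cases hne : classInner (fun k : K => (η : L → ℂ) k) θ = 0
      · rw [← classInner_conj_symm, hne, map_zero, Finset.sum_eq_zero]
        intro φ _
        refine classInner_irr_ne (htw _) η.2 fun e => ?_
        rw [← e] at hne
        have : (fun k : K => χ k * (h.lift φ.1 k : ℂ)) = θ := by
          funext k; simp [h.lift_mem φ.1 k.2, hres]
        rw [this, classInner_irr_self hθ] at hne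
        exact one_ne_zero hne
      · obtain ⟨φ, hφ⟩ := hover η η.2 (hres'.symm ▸ hne)
        rw [Finset.sum_eq_single φ (fun ψ _ hψ => classInner_irr_ne (htw _) η.2
          fun e => hψ (hinj (e.trans hφ))) (by simp), hφ, classInner_irr_self (htw _)]
        have : (fun k : K => χ k * (h.lift φ.1 k : ℂ)) = θ := by
          funext k; simp [h.lift_mem φ.1 k.2, hres]
        rw [this, classInner_irr_self hθ]

end PrimePair

end Cfsg.Agent.CyclicTI
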